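import Groth.Agent.RelTildeX.Props
import Groth.Agent.GrTwistX.Triv

/-!
Twisting sheaves on a relative `Proj` of an algebra generated in degree one are invertible.
-/

noncomputable section

universe u

open CategoryTheory CategoryTheory.Limits AlgebraicGeometry TopologicalSpace Opposite Groth.Agent.QCoh
open scoped HomogeneousIdeal

namespace Groth.Agent.RelTildeX

variable {Y P : Scheme.{u}} {𝒮 : RelProj.QCGrAlg Y} {p : P ⟶ Y}
  {chart : ∀ (U : Y.Opens) (hU : IsAffineOpen U), (((p ⁻¹ᵁ U : P.Opens) : Scheme.{u}) ≅ Proj (𝒮.deg U hU))}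

/-- Trivialisations pass to image opens. -/
lemma nonempty_trivial_image {X Z : Scheme.{u}} (e : Z ⟶ X) [IsOpenImmersion e] {L : X.Modules} {N : Z.Modules}
    (i : L.restrict e ≅ N) (D : Z.Opens) (h : Nonempty (N.restrict D.ι ≅ Coh.structureModule D.toScheme)) :
    Nonempty (L.restrict (e ''ᵁ D).ι ≅ Coh.structureModule (e ''ᵁ D : X.Opens).toScheme) := by
  obtain ⟨t⟩ := h
  have hu : ((e.isoImage D).inv ≫ D.ι) ≫ e = (e ''ᵁ D).ι := by simp
  exact ⟨((Scheme.Modules.restrictFunctorCongr hu).app L).symm ≪≫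
    (restrictRestrict L ((e.isoImage D).inv ≫ D.ι) e).symm ≪≫
    (restrictRestrict (L.restrict e) (e.isoImage D).inv D.ι).symm ≪≫
    (Scheme.Modules.restrictFunctor (e.isoImage D).inv).mapIso
      ((Scheme.Modules.restrictFunctor D.ι).mapIso i ≪≫ t) ≪≫
    Scheme.Modules.restrictUnitIso _⟩

theorem isInvertible_twist (hgen : 𝒮.IsGenDegOne) {n : ℤ} {L : P.Modules}
    {lam : ∀ (U : Y.Opens) (hU : IsAffineOpen U),
      L ⟶ (Scheme.Modules.pushforward (RelProj.emb p chart U hU)).obj (GrTwist.twist (𝒮.deg U hU) n)}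
    (hL : RelProj.IsRelTwist 𝒮 p chart n L lam) : PicF.IsInvertible L := by
  intro x
  obtain ⟨_, ⟨U, hU, rfl⟩, hxU, -⟩ := Y.isBasis_affineOpens.exists_subset_of_mem_open
    (Set.mem_univ (p x)) isOpen_univ
  have hxr : x ∈ (RelProj.emb p chart U hU).opensRange := by rw [opensRange_emb]; exact hxU
  obtain ⟨y, rfl⟩ := hxr
  obtain ⟨f, hf, hfy⟩ : ∃ f ∈ 𝒮.deg U hU 1, f ∉ y.asHomogeneousIdeal := by
    by_contra! hall
    exact y.not_irrelevant_le (show ((𝒮.deg U hU)₊).toIdeal ≤ y.asHomogeneousIdeal.toIdeal from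
      irrelevant_eq_span_deg_one hgen U hU ▸ Ideal.span_le.mpr hall)
  refine ⟨RelProj.emb p chart U hU ''ᵁ Proj.basicOpen (𝒮.deg U hU) f, ⟨y, hfy, rfl⟩,
    nonempty_trivial_image _ (twistIso hL U hU) _ ?_⟩
  have h := GrTwistX.nonempty_iso_basicOpen hf n
  rw [Nat.cast_one, mul_one] at h
  exact h

end Groth.Agent.RelTildeX
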