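import Groth.Agent.RelTildeX.Exists

/-!
The graded algebra as a graded module over itself; existence of the twisting sheaves on a relative `Proj`.
-/

noncomputable section

set_option autoImplicit false
set_option backward.isDefEq.respectTransparency false

universe u

open CategoryTheory CategoryTheory.Limits AlgebraicGeometry TopologicalSpace Opposite Groth.Agent.QCoh
open scoped HomogeneousIdeal

namespace Groth.Agent.RelTildeX.Exists

variable {Y P : Scheme.{u}} (𝒮 : RelProj.QCGrAlg Y)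

/-- The graded algebra as a graded module over itself. -/
def self : RelProj.GrModule 𝒮 where
  mod := SheafOfModules.unit (AMod.ringSheaf 𝒮.toQCAlg)
  deg U hU := 𝒮.deg U hU
  decomp U hU := show DirectSum.Decomposition (𝒮.deg U hU) from inferInstance
  gradedSMul U hU := show SetLike.GradedSMul (𝒮.deg U hU) (𝒮.deg U hU) from inferInstance
  map_mem hU hV i := fun hm => 𝒮.map_mem hU hV i hm

lemma isLoc_self : IsLoc 𝒮 (self 𝒮) where
  surj U hU r m' := exists_ring_lift hU r m'
  inj U hU r m hm := by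
    let _ := (𝒮.presheaf.map (homOfLE (Y.basicOpen_le r)).op).hom.toAlgebra
    haveI : IsLocalization.Away (cst 𝒮 r) (𝒮.presheaf.obj (op (Y.basicOpen r))) := 𝒮.isQC U hU r
    obtain ⟨⟨_, k, rfl⟩, hk⟩ := (IsLocalization.map_eq_zero_iff (Submonoid.powers (cst 𝒮 r))
      (𝒮.presheaf.obj (op (Y.basicOpen r))) (show 𝒮.presheaf.obj (op U) from m)).1 hm
    exact ⟨k, hk⟩

variable {𝒮} in
lemma locModMap_self {U D : Y.Opens} (hU : IsAffineOpen U) (hD : IsAffineOpen D) (i : D ≤ U)
    (hi : (𝒮.deg D hD)₊ ≤ ((𝒮.deg U hU)₊).map (𝒮.res hU hD i)) (y : ProjectiveSpectrum (𝒮.deg D hD))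
    (q : GrMod.LocMod (𝒮.deg U hU) (M := (self 𝒮).mod.val.obj (op U))
      (ProjectiveSpectrum.comap (𝒮.res hU hD i) hi y)) :
    (show GrTwist.Loc (𝒮.deg D hD) y from
      GrMod.locModMap (𝒮.res hU hD i) hi ((self 𝒮).res hU hD i) y q) =
      GrTwist.locMap (𝒮.res hU hD i) hi y q := by
  induction q using LocalizedModule.induction_on with
  | h m s =>
    rw [GrMod.locModMap_mk]
    exact (GrTwist.locMap_mk (𝒮.res hU hD i) hi y m s).symm

/-- Existence of the twisting sheaves. -/
theorem exists_isRelTwist (p : P ⟶ Y)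
    (chart : ∀ (U : Y.Opens) (hU : IsAffineOpen U), (((p ⁻¹ᵁ U : P.Opens) : Scheme.{u}) ≅ Proj (𝒮.deg U hU)))
    (hP : RelProj.IsRelProj 𝒮 p chart) (n : ℤ) :
    ∃ (L : P.Modules) (lam : ∀ (U : Y.Opens) (hU : IsAffineOpen U),
      L ⟶ (Scheme.Modules.pushforward (RelProj.emb p chart U hU)).obj (GrTwist.twist (𝒮.deg U hU) n)),
      RelProj.IsRelTwist 𝒮 p chart n L lam := by
  have h := isRelTilde_glued (isLoc_self 𝒮) p chart hP n
  refine ⟨glued (ℳ := self 𝒮) p chart hP n, gluedLam p chart hP n, ⟨h.bijective, fun U hU r W s y hy hy' => ?_⟩⟩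
  exact (h.compat U hU r W s y hy hy').trans (locModMap_self hU (hU.basicOpen r) _ _ y _)

end Groth.Agent.RelTildeX.Exists
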