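import Groth.Agent.RelTildeX.Props

/-!
Gluing morphisms of modules on a relative `Proj` from morphisms in the charts.
-/

noncomputable section

universe u

open CategoryTheory CategoryTheory.Limits AlgebraicGeometry TopologicalSpace Opposite Groth.Agent.QCoh
open scoped HomogeneousIdeal

namespace Groth.Agent.RelTildeX

variable {Y P : Scheme.{u}} {𝒮 : RelProj.QCGrAlg Y} {p : P ⟶ Y}
  {chart : ∀ (U : Y.Opens) (hU : IsAffineOpen U), (((p ⁻¹ᵁ U : P.Opens) : Scheme.{u}) ≅ Proj (𝒮.deg U hU))}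
  {ℳ 𝒩 : RelProj.GrModule 𝒮} {n n' : ℤ} {F G : P.Modules}
  (lam : ∀ (U : Y.Opens) (hU : IsAffineOpen U),
    F ⟶ (Scheme.Modules.pushforward (RelProj.emb p chart U hU)).obj (GrMod.tilde (𝒮.deg U hU) (ℳ.deg U hU) n))
  (lam' : ∀ (U : Y.Opens) (hU : IsAffineOpen U),
    G ⟶ (Scheme.Modules.pushforward (RelProj.emb p chart U hU)).obj (GrMod.tilde (𝒮.deg U hU) (𝒩.deg U hU) n'))
  (g : ∀ (U : Y.Opens) (hU : IsAffineOpen U),
    GrMod.tilde (𝒮.deg U hU) (ℳ.deg U hU) n ⟶ GrMod.tilde (𝒮.deg U hU) (𝒩.deg U hU) n')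

/-- The chart equation on one open. -/
def RelAt (U : Y.Opens) (hU : IsAffineOpen U) (W : P.Opens) (s : Γ(F, W)) (t : Γ(G, W)) : Prop :=
  (lam' U hU).app W t = ((Scheme.Modules.pushforward (RelProj.emb p chart U hU)).map (g U hU)).app W ((lam U hU).app W s)

variable {lam lam' g}

lemma RelAt.res {U : Y.Opens} {hU : IsAffineOpen U} {W W' : P.Opens} (i : W' ≤ W) {s : Γ(F, W)} {t : Γ(G, W)}
    (h : RelAt lam lam' g U hU W s t) :
    RelAt lam lam' g U hU W' (F.presheaf.map (homOfLE i).op s) (G.presheaf.map (homOfLE i).op t) := by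
  unfold RelAt at h ⊢
  rw [map_app_comm, map_app_comm, h, map_app_comm]

/-- The chart morphisms are given pointwise, compatibly with restriction. -/
structure IsPointwise (g : ∀ (U : Y.Opens) (hU : IsAffineOpen U),
    GrMod.tilde (𝒮.deg U hU) (ℳ.deg U hU) n ⟶ GrMod.tilde (𝒮.deg U hU) (𝒩.deg U hU) n')
    (φ : ∀ (U : Y.Opens) (hU : IsAffineOpen U) (x : ProjectiveSpectrum (𝒮.deg U hU)),
      GrMod.LocMod (𝒮.deg U hU) (M := ℳ.mod.val.obj (op U)) x →
        GrMod.LocMod (𝒮.deg U hU) (M := 𝒩.mod.val.obj (op U)) x) : Prop where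
  val_eq : ∀ (U : Y.Opens) (hU : IsAffineOpen U) (V : (Proj (𝒮.deg U hU)).Opens)
    (a : Γ(GrMod.tilde (𝒮.deg U hU) (ℳ.deg U hU) n, V)) (x : V),
    GrMod.val ((g U hU).app V a) x = φ U hU x.1 (GrMod.val a x)
  comm : ∀ (U : Y.Opens) (hU : IsAffineOpen U) (r : Γ(Y, U))
    (y : ProjectiveSpectrum (𝒮.deg (Y.basicOpen r) (hU.basicOpen r)))
    (q : GrMod.LocMod (𝒮.deg U hU) (M := ℳ.mod.val.obj (op U)) (ProjectiveSpectrum.comap
      (𝒮.res hU (hU.basicOpen r) (Y.basicOpen_le r)) (𝒮.irrelevant_le_map U hU r) y)),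
    φ _ (hU.basicOpen r) y (GrMod.locModMap (𝒮.res hU (hU.basicOpen r) (Y.basicOpen_le r))
        (𝒮.irrelevant_le_map U hU r) (ℳ.res hU (hU.basicOpen r) (Y.basicOpen_le r)) y q) =
      GrMod.locModMap (𝒮.res hU (hU.basicOpen r) (Y.basicOpen_le r))
        (𝒮.irrelevant_le_map U hU r) (𝒩.res hU (hU.basicOpen r) (Y.basicOpen_le r)) y (φ U hU _ q)

variable {φ : ∀ (U : Y.Opens) (hU : IsAffineOpen U) (x : ProjectiveSpectrum (𝒮.deg U hU)),
      GrMod.LocMod (𝒮.deg U hU) (M := ℳ.mod.val.obj (op U)) x →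
        GrMod.LocMod (𝒮.deg U hU) (M := 𝒩.mod.val.obj (op U)) x}
  (hP : RelProj.IsRelProj 𝒮 p chart) (hF : RelProj.IsRelTilde 𝒮 p chart ℳ n F lam)
  (hG : RelProj.IsRelTilde 𝒮 p chart 𝒩 n' G lam') (hg : IsPointwise g φ)

include hP hF hG hg

lemma RelAt.down {U : Y.Opens} {hU : IsAffineOpen U} (r : Γ(Y, U)) {D : Y.Opens} (hD : IsAffineOpen D)
    (e : D = Y.basicOpen r) {W : P.Opens} {s : Γ(F, W)} {t : Γ(G, W)}
    (h : RelAt lam lam' g U hU W s t) : RelAt lam lam' g D hD W s t := by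
  subst e
  refine GrModX.ext_val _ _ fun ⟨y, hy⟩ => ?_
  have hy' : (RelProj.emb p chart U hU).base (ProjectiveSpectrum.comap
      (𝒮.res hU (hU.basicOpen r) (Y.basicOpen_le r)) (𝒮.irrelevant_le_map U hU r) y) ∈ W := by
    have h2 := congrArg (fun ψ : Proj (𝒮.deg (Y.basicOpen r) (hU.basicOpen r)) ⟶ P => ψ.base y)
      (RelProj.map_res_emb hP U hU r)
    exact (show _ = _ from h2).symm ▸ hy
  refine (hG.compat U hU r W t y hy hy').trans ?_
  refine Eq.trans ?_ (hg.val_eq _ hD _ _ ⟨y, hy⟩).symm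
  rw [h]
  refine (congrArg _ (hg.val_eq U hU _ _ ⟨_, hy'⟩)).trans ?_
  rw [← hg.comm]
  exact congrArg _ (hF.compat U hU r W s y hy hy').symm

omit hP hF hg in
lemma rel_unique {W : P.Opens} {s : Γ(F, W)} {t t' : Γ(G, W)}
    (h : ∀ U hU, RelAt lam lam' g U hU W s t) (h' : ∀ U hU, RelAt lam lam' g U hU W s t') : t = t' := by
  refine sub_eq_zero.1 (eq_zero_of_locally W _ fun x hx => ?_)
  obtain ⟨_, ⟨U, hU, rfl⟩, hxU, -⟩ := Y.isBasis_affineOpens.exists_subset_of_mem_open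
    (Set.mem_univ (p x)) isOpen_univ
  refine ⟨W ⊓ p ⁻¹ᵁ U, homOfLE inf_le_left, ⟨hx, hxU⟩, ?_⟩
  rw [map_sub, sub_eq_zero]
  exact (hG.bijective U hU _ inf_le_right).1
    (((h U hU).res inf_le_left).trans ((h' U hU).res inf_le_left).symm)

lemma rel_of_relAt {U : Y.Opens} {hU : IsAffineOpen U} {W : P.Opens} (hW : W ≤ p ⁻¹ᵁ U) {s : Γ(F, W)}
    {t : Γ(G, W)} (h : RelAt lam lam' g U hU W s t) :
    ∀ V hV, RelAt lam lam' g V hV W s t := by
  intro V hV
  refine GrModX.ext_val _ _ fun ⟨y, hy⟩ => ?_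
  let x : P := (RelProj.emb p chart V hV).base y
  have hxV : x ∈ p ⁻¹ᵁ V := by rw [← opensRange_emb p chart V hV]; exact ⟨y, rfl⟩
  obtain ⟨r, r', e, hxr⟩ := exists_basicOpen_le_affine_inter hU hV (p.base x) ⟨hW hy, hxV⟩
  have hW'W : W ⊓ p ⁻¹ᵁ Y.basicOpen r ≤ W := inf_le_left
  have hW'V : W ⊓ p ⁻¹ᵁ Y.basicOpen r ≤ p ⁻¹ᵁ V :=
    inf_le_right.trans (p.preimage_mono (e.le.trans (Y.basicOpen_le r')))
  obtain ⟨t'', ht''⟩ := (hG.bijective V hV _ hW'V).2
    (((Scheme.Modules.pushforward (RelProj.emb p chart V hV)).map (g V hV)).app _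
      ((lam V hV).app _ (F.presheaf.map (homOfLE hW'W).op s)))
  have h1 : RelAt lam lam' g _ (hU.basicOpen r) _ _ _ := RelAt.down hP hF hG hg r (hU.basicOpen r) rfl (h.res hW'W)
  have h2 : RelAt lam lam' g _ (hU.basicOpen r) _ _ t'' := RelAt.down hP hF hG hg r' (hU.basicOpen r) e ht''
  have heq : t'' = G.presheaf.map (homOfLE hW'W).op t :=
    (hG.bijective _ (hU.basicOpen r) _ inf_le_right).1 (h2.trans h1.symm)
  rw [heq, map_app_comm, map_app_comm, map_app_comm] at ht''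
  exact congrArg (fun z => GrMod.val (V := RelProj.emb p chart V hV ⁻¹ᵁ (W ⊓ p ⁻¹ᵁ Y.basicOpen r)) z
    ⟨y, ⟨hy, hxr⟩⟩) ht''

lemma exists_rel (W : P.Opens) (s : Γ(F, W)) : ∃ t, ∀ U hU, RelAt lam lam' g U hU W s t := by
  have hloc : ∀ U : Y.affineOpens, ∃ t : Γ(G, W ⊓ p ⁻¹ᵁ U.1), ∀ V hV,
      RelAt lam lam' g V hV _ (F.presheaf.map (homOfLE inf_le_left).op s) t := fun U => by
    obtain ⟨t, ht⟩ := (hG.bijective U.1 U.2 (W ⊓ p ⁻¹ᵁ U.1) inf_le_right).2
      (((Scheme.Modules.pushforward (RelProj.emb p chart U.1 U.2)).map (g U.1 U.2)).app _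
        ((lam U.1 U.2).app _ (F.presheaf.map (homOfLE inf_le_left).op s)))
    exact ⟨t, rel_of_relAt hP hF hG hg inf_le_right ht⟩
  choose t ht using hloc
  obtain ⟨T, hT, -⟩ := TopCat.Sheaf.existsUnique_gluing' ⟨G.presheaf, G.isSheaf⟩
    (fun U : Y.affineOpens => W ⊓ p ⁻¹ᵁ U.1) W (fun _ => homOfLE inf_le_left)
    (fun x hx => by
      obtain ⟨_, ⟨U, hU, rfl⟩, hxU, -⟩ := Y.isBasis_affineOpens.exists_subset_of_mem_open
        (Set.mem_univ (p x)) isOpen_univ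
      exact Opens.mem_iSup.2 ⟨⟨U, hU⟩, hx, hxU⟩) t (fun U V => by
      refine rel_unique (lam := lam) (g := g) hG (s := F.presheaf.map (homOfLE (inf_le_left.trans inf_le_left)).op s)
        (fun A hA => ?_) fun A hA => ?_
      · have := RelAt.res (inf_le_left : (W ⊓ p ⁻¹ᵁ U.1) ⊓ (W ⊓ p ⁻¹ᵁ V.1) ≤ _) (ht U A hA)
        rw [map_map] at this
        exact this
      · have := RelAt.res (inf_le_right : (W ⊓ p ⁻¹ᵁ U.1) ⊓ (W ⊓ p ⁻¹ᵁ V.1) ≤ _) (ht V A hA)
        rw [map_map] at this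
        exact this)
  refine ⟨T, fun V hV => GrModX.ext_val _ _ fun ⟨y, hy⟩ => ?_⟩
  obtain ⟨_, ⟨U, hU, rfl⟩, hxU, -⟩ := Y.isBasis_affineOpens.exists_subset_of_mem_open
    (Set.mem_univ (p.base ((RelProj.emb p chart V hV).base y))) isOpen_univ
  have h := ht ⟨U, hU⟩ V hV
  rw [show t ⟨U, hU⟩ = G.presheaf.map (homOfLE inf_le_left).op T from (hT ⟨U, hU⟩).symm] at h
  unfold RelAt at h
  rw [map_app_comm, map_app_comm, map_app_comm] at h
  exact congrArg (fun z => GrMod.val (V := RelProj.emb p chart V hV ⁻¹ᵁ (W ⊓ p ⁻¹ᵁ U)) z ⟨y, hy, hxU⟩) h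

lemma chooseRel_add {W : P.Opens} (s s' : Γ(F, W)) :
    (exists_rel hP hF hG hg W (s + s')).choose =
      (exists_rel hP hF hG hg W s).choose + (exists_rel hP hF hG hg W s').choose :=
  rel_unique hG (exists_rel hP hF hG hg W (s + s')).choose_spec fun U hU => by
    have h1 := (exists_rel hP hF hG hg W s).choose_spec U hU
    have h2 := (exists_rel hP hF hG hg W s').choose_spec U hU
    unfold RelAt at h1 h2 ⊢
    simp only [map_add, h1, h2]

lemma chooseRel_smul {W : P.Opens} (c : Γ(P, W)) (s : Γ(F, W)) :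
    (exists_rel hP hF hG hg W (c • s)).choose = c • (exists_rel hP hF hG hg W s).choose :=
  rel_unique hG (exists_rel hP hF hG hg W (c • s)).choose_spec fun U hU => by
    have h1 := (exists_rel hP hF hG hg W s).choose_spec U hU
    unfold RelAt at h1 ⊢
    rw [Scheme.Modules.Hom.app_smul, Scheme.Modules.Hom.app_smul, Scheme.Modules.Hom.app_smul, h1]

/-- The glued morphism. -/
def glueHom : F ⟶ G where
  val := PresheafOfModules.homMk
    { app := fun W => AddCommGrpCat.ofHom (AddMonoidHom.mk'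
        (fun s => (exists_rel hP hF hG hg W.unop s).choose) fun s s' => chooseRel_add hP hF hG hg s s')
      naturality := fun V W i => by
        ext s
        exact rel_unique hG (exists_rel hP hF hG hg W.unop (F.presheaf.map i s)).choose_spec
          fun U hU => ((exists_rel hP hF hG hg V.unop s).choose_spec U hU).res i.unop.le }
    fun W c s => chooseRel_smul hP hF hG hg c s

lemma glueHom_comp (U : Y.Opens) (hU : IsAffineOpen U) :
    glueHom hP hF hG hg ≫ lam' U hU =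
      lam U hU ≫ (Scheme.Modules.pushforward (RelProj.emb p chart U hU)).map (g U hU) := by
  refine Scheme.Modules.hom_ext _ _ fun W => ?_
  ext s
  exact (exists_rel hP hF hG hg W s).choose_spec U hU

theorem existsUnique_hom : ∃! ψ : F ⟶ G, ∀ (U : Y.Opens) (hU : IsAffineOpen U),
    ψ ≫ lam' U hU = lam U hU ≫ (Scheme.Modules.pushforward (RelProj.emb p chart U hU)).map (g U hU) := by
  refine ⟨glueHom hP hF hG hg, glueHom_comp hP hF hG hg, fun ψ hψ => ?_⟩
  refine Scheme.Modules.hom_ext _ _ fun W => ?_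
  ext s
  refine rel_unique hG (fun U hU => ?_) (exists_rel hP hF hG hg W s).choose_spec
  exact congrArg (fun χ : F ⟶ _ => χ.app W s) (hψ U hU)

omit hP hF hG hg

/-- Identity chart maps are pointwise. -/
lemma isPointwise_id : IsPointwise (ℳ := ℳ) (𝒩 := ℳ) (n := n) (n' := n)
    (fun U hU => 𝟙 (GrMod.tilde (𝒮.deg U hU) (ℳ.deg U hU) n)) fun _ _ _ q => q where
  val_eq _ _ _ _ _ := rfl
  comm _ _ _ _ _ := rfl

end Groth.Agent.RelTildeX
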