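import Groth.Agent.RelTildeX.Twist
import Groth.Agent.RelTildeX.Glue
import Groth.Agent.QCoh.Localize
import Mathlib.Algebra.Category.ModuleCat.Sheaf.Limits

/-!
Preliminaries for the existence of the module `(ℳ(n))~` on a relative `Proj`, by gluing the modules of the charts.
-/

noncomputable section

set_option autoImplicit false
set_option backward.isDefEq.respectTransparency false

universe u

open CategoryTheory CategoryTheory.Limits AlgebraicGeometry TopologicalSpace Opposite Groth.Agent.QCoh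
open scoped HomogeneousIdeal

namespace Groth.Agent.RelTildeX.Exists

/-- An element of sections of a product. -/
lemma exists_pi_section {X : Scheme.{u}} {I : Type u} (N : I → X.Modules) (W : X.Opens)
    (t : ∀ i, Γ(N i, W)) : ∃! s : Γ(∏ᶜ N, W), ∀ i, (Pi.π N i).app W s = t i := by
  let G := SheafOfModules.evaluation.{u} X.ringCatSheaf (op W) ⋙ forget (ModuleCat.{u} _)
  let e := Types.isLimitEquivSections (isLimitOfPreserves G (productIsProduct N))
  let σ : (Discrete.functor N ⋙ G).sections := ⟨fun i => t i.as, fun {i j} f => by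
    obtain ⟨i⟩ := i
    obtain ⟨j⟩ := j
    obtain rfl : i = j := Discrete.eq_of_hom f
    obtain rfl : f = 𝟙 _ := Subsingleton.elim _ _
    simp⟩
  refine ⟨e.symm σ, fun i => Types.isLimitEquivSections_symm_apply
    (isLimitOfPreserves G (productIsProduct N)) σ ⟨i⟩, fun s hs => e.injective ?_⟩
  rw [Equiv.apply_symm_apply]
  exact Subtype.ext (funext fun i => hs i.as)

/-- An element of sections of an equalizer. -/
lemma exists_equalizer_section {X : Scheme.{u}} {M N : X.Modules} (a b : M ⟶ N) (W : X.Opens)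
    (t : Γ(M, W)) (h : a.app W t = b.app W t) :
    ∃ s : Γ(equalizer a b, W), (equalizer.ι a b).app W s = t := by
  let G := SheafOfModules.evaluation.{u} X.ringCatSheaf (op W) ⋙ forget (ModuleCat.{u} _)
  have hc := isLimitForkMapOfIsLimit G _ (equalizerIsEqualizer a b)
  obtain ⟨s, hs, -⟩ := (Types.type_equalizer_iff_unique (G.map (equalizer.ι a b)) (by rw [← G.map_comp, ← G.map_comp, equalizer.condition])).1 ⟨hc⟩ t h
  exact ⟨s, hs⟩
lemma equalizer_section_injective {X : Scheme.{u}} {M N : X.Modules} (a b : M ⟶ N) (W : X.Opens) :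
    Function.Injective ((equalizer.ι a b).app W) := by
  let G := SheafOfModules.evaluation.{u} X.ringCatSheaf (op W) ⋙ forget (ModuleCat.{u} _)
  exact (mono_iff_injective (G.map (equalizer.ι a b))).1 inferInstance

variable {Y P : Scheme.{u}} (𝒮 : RelProj.QCGrAlg Y) (ℳ : RelProj.GrModule 𝒮)

/-- The structure element of a function. -/
abbrev cst {U : Y.Opens} (r : Γ(Y, U)) : 𝒮.presheaf.obj (op U) := (𝒮.str.app (op U)).hom r

/-- Restrictions to basic opens are localizations. -/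
structure IsLoc : Prop where
  surj : ∀ (U : Y.Opens) (hU : IsAffineOpen U) (r : Γ(Y, U)) (m' : ℳ.mod.val.obj (op (Y.basicOpen r))),
    ∃ (k : ℕ) (m : ℳ.mod.val.obj (op U)), ℳ.res hU (hU.basicOpen r) (Y.basicOpen_le r) m =
      (𝒮.res hU (hU.basicOpen r) (Y.basicOpen_le r)) (cst 𝒮 r ^ k) • m'
  inj : ∀ (U : Y.Opens) (hU : IsAffineOpen U) (r : Γ(Y, U)) (m : ℳ.mod.val.obj (op U)),
    ℳ.res hU (hU.basicOpen r) (Y.basicOpen_le r) m = 0 → ∃ k : ℕ, cst 𝒮 r ^ k • m = 0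

lemma res_cst {U : Y.Opens} (hU : IsAffineOpen U) (r : Γ(Y, U)) (k : ℕ) :
    (𝒮.res hU (hU.basicOpen r) (Y.basicOpen_le r)) (cst 𝒮 r ^ k) =
      cst 𝒮 (Y.presheaf.map (homOfLE (Y.basicOpen_le r)).op r ^ k) := by
  rw [RelProj.QCGrAlg.res_apply, ← map_pow]
  exact (ConcreteCategory.congr_hom (𝒮.str.naturality (homOfLE (Y.basicOpen_le r)).op) (r ^ k)).symm.trans
    (congrArg _ (map_pow (Y.presheaf.map (homOfLE (Y.basicOpen_le r)).op).hom r k))

lemma isLoc_of_isQCoh (hℳ : Coh.IsQCoh ((AMod.toOS 𝒮.toQCAlg).obj ℳ.mod)) : IsLoc 𝒮 ℳ where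
  surj U hU r m' := by
    obtain ⟨k, m, hm⟩ := exists_pow_smul_eq_map hℳ hU r
      (show Γ((AMod.toOS 𝒮.toQCAlg).obj ℳ.mod, Y.basicOpen r) from m')
    refine ⟨k, m, ?_⟩
    rw [res_cst 𝒮 hU r k]
    exact hm
  inj U hU r m hm := by
    obtain ⟨k, hk⟩ := exists_pow_smul_eq_zero hℳ hU r
      (show Γ((AMod.toOS 𝒮.toQCAlg).obj ℳ.mod, U) from m) hm
    refine ⟨k, ?_⟩
    rw [cst, ← map_pow]
    exact hk

/-- `D` is a basic open of `U`. -/
def IsBasic (U D : Y.Opens) : Prop := ∃ r : Γ(Y, U), D = Y.basicOpen r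

lemma IsBasic.le {U D : Y.Opens} (h : IsBasic U D) : D ≤ U := by
  obtain ⟨r, rfl⟩ := h; exact Y.basicOpen_le r

lemma IsBasic.trans {U D E : Y.Opens} (hU : IsAffineOpen U) (h : IsBasic U D) (h' : IsBasic D E) :
    IsBasic U E := by
  obtain ⟨r, rfl⟩ := h
  obtain ⟨g, rfl⟩ := h'
  obtain ⟨f, hf⟩ := hU.basicOpen_basicOpen_is_basicOpen r g
  exact ⟨f, hf.symm⟩

lemma exists_common {U V : Y.Opens} (hU : IsAffineOpen U) (hV : IsAffineOpen V) {x : Y} (hx : x ∈ U ⊓ V) :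
    ∃ (D : Y.Opens) (_ : IsAffineOpen D), IsBasic U D ∧ IsBasic V D ∧ x ∈ D := by
  obtain ⟨r, r', e, hr⟩ := exists_basicOpen_le_affine_inter hU hV x hx
  exact ⟨_, hU.basicOpen r, ⟨r, rfl⟩, ⟨r', e⟩, hr⟩

lemma irr {U D : Y.Opens} (hU : IsAffineOpen U) (hD : IsAffineOpen D) (h : IsBasic U D) :
    (𝒮.deg D hD)₊ ≤ ((𝒮.deg U hU)₊).map (𝒮.res hU hD h.le) := by
  obtain ⟨r, rfl⟩ := h
  exact 𝒮.irrelevant_le_map U hU r

variable {𝒮}

/-- The point below. -/
abbrev pt {U D : Y.Opens} (hU : IsAffineOpen U) (hD : IsAffineOpen D) (h : IsBasic U D)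
    (y : ProjectiveSpectrum (𝒮.deg D hD)) : ProjectiveSpectrum (𝒮.deg U hU) :=
  ProjectiveSpectrum.comap (𝒮.res hU hD h.le) (irr 𝒮 hU hD h) y

/-- The map of localized modules along a restriction to a basic open, with the point free. -/
def lm {U D : Y.Opens} (hU : IsAffineOpen U) (hD : IsAffineOpen D) (h : IsBasic U D)
    (y : ProjectiveSpectrum (𝒮.deg D hD)) (z : ProjectiveSpectrum (𝒮.deg U hU)) (e : pt hU hD h y = z)
    (q : GrMod.LocMod (𝒮.deg U hU) (M := ℳ.mod.val.obj (op U)) z) :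
    GrMod.LocMod (𝒮.deg D hD) (M := ℳ.mod.val.obj (op D)) y :=
  GrMod.locModMap (𝒮.res hU hD h.le) (irr 𝒮 hU hD h) (ℳ.res hU hD h.le) y
    (cast (congrArg (fun z => GrMod.LocMod (𝒮.deg U hU) (M := ℳ.mod.val.obj (op U)) z) e.symm) q)

variable {ℳ}

lemma res_notMem {U D : Y.Opens} {hU : IsAffineOpen U} {hD : IsAffineOpen D} {h : IsBasic U D}
    {y : ProjectiveSpectrum (𝒮.deg D hD)} {z : ProjectiveSpectrum (𝒮.deg U hU)} (e : pt hU hD h y = z)
    {s : 𝒮.presheaf.obj (op U)} (hs : s ∉ z.asHomogeneousIdeal) :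
    𝒮.res hU hD h.le s ∉ y.asHomogeneousIdeal := by
  subst e; exact hs

lemma lm_mk {U D : Y.Opens} (hU : IsAffineOpen U) (hD : IsAffineOpen D) (h : IsBasic U D)
    (y : ProjectiveSpectrum (𝒮.deg D hD)) (z : ProjectiveSpectrum (𝒮.deg U hU)) (e : pt hU hD h y = z)
    (m : ℳ.mod.val.obj (op U)) (s : 𝒮.presheaf.obj (op U)) (hs : s ∉ z.asHomogeneousIdeal) :
    lm ℳ hU hD h y z e (LocalizedModule.mk m ⟨s, hs⟩) =
      LocalizedModule.mk (ℳ.res hU hD h.le m) ⟨𝒮.res hU hD h.le s, res_notMem e hs⟩ := by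
  subst e
  exact GrMod.locModMap_mk (𝒮.res hU hD h.le) (irr 𝒮 hU hD h) (ℳ.res hU hD h.le) y m ⟨s, hs⟩

lemma lm_rfl {U D : Y.Opens} (hU : IsAffineOpen U) (hD : IsAffineOpen D) (h : IsBasic U D)
    (y : ProjectiveSpectrum (𝒮.deg D hD)) (q : GrMod.LocMod (𝒮.deg U hU) (M := ℳ.mod.val.obj (op U)) (pt hU hD h y)) :
    lm ℳ hU hD h y _ rfl q =
      GrMod.locModMap (𝒮.res hU hD h.le) (irr 𝒮 hU hD h) (ℳ.res hU hD h.le) y q := rfl

lemma lm_comp {U D E : Y.Opens} {hU : IsAffineOpen U} {hD : IsAffineOpen D} {hE : IsAffineOpen E}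
    {h : IsBasic U D} {h' : IsBasic D E} (h'' : IsBasic U E)
    {y : ProjectiveSpectrum (𝒮.deg E hE)} {w : ProjectiveSpectrum (𝒮.deg D hD)}
    {z : ProjectiveSpectrum (𝒮.deg U hU)} (e : pt hD hE h' y = w) (e' : pt hU hD h w = z)
    (e'' : pt hU hE h'' y = z)
    (q : GrMod.LocMod (𝒮.deg U hU) (M := ℳ.mod.val.obj (op U)) z) :
    lm ℳ hD hE h' y w e (lm ℳ hU hD h w z e' q) = lm ℳ hU hE h'' y z e'' q := by
  induction q using LocalizedModule.induction_on with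
  | h m s =>
    obtain ⟨s, hs⟩ := s
    rw [lm_mk, lm_mk, lm_mk]
    have e1 : ℳ.res hD hE h'.le (ℳ.res hU hD h.le m) = ℳ.res hU hE h''.le m := by
      simp only [RelProj.GrModule.res_apply]
      exact (PresheafOfModules.map_comp_apply ℳ.mod.val (homOfLE h.le).op (homOfLE h'.le).op m).symm
    have e2 : 𝒮.res hD hE h'.le (𝒮.res hU hD h.le s) = 𝒮.res hU hE h''.le s := by
      simp only [RelProj.QCGrAlg.res_apply, ← ConcreteCategory.comp_apply, ← Functor.map_comp]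
      rfl
    simp only [e1, e2]

variable (hloc : IsLoc 𝒮 ℳ)

lemma cst_notMem {U : Y.Opens} (hU : IsAffineOpen U) (r : Γ(Y, U))
    (y : ProjectiveSpectrum (𝒮.deg (Y.basicOpen r) (hU.basicOpen r))) (k : ℕ) :
    cst 𝒮 r ^ k ∉ (pt hU (hU.basicOpen r) ⟨r, rfl⟩ y).asHomogeneousIdeal := by
  intro hmem
  have h1 : (𝒮.res hU (hU.basicOpen r) (Y.basicOpen_le r)) (cst 𝒮 r ^ k) ∈ y.asHomogeneousIdeal := hmem
  rw [res_cst 𝒮 hU r k] at h1
  exact y.isPrime.ne_top (Ideal.eq_top_of_isUnit_mem _ h1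
    ((((Y.toRingedSpace.isUnit_res_basicOpen r)).pow k).map (𝒮.str.app (op (Y.basicOpen r))).hom))

/-- Elements of the ring on a basic open come from the big open up to powers. -/
lemma exists_ring_lift {U : Y.Opens} (hU : IsAffineOpen U) (r : Γ(Y, U))
    (s' : 𝒮.presheaf.obj (op (Y.basicOpen r))) :
    ∃ (k : ℕ) (s : 𝒮.presheaf.obj (op U)), 𝒮.res hU (hU.basicOpen r) (Y.basicOpen_le r) s =
      (𝒮.res hU (hU.basicOpen r) (Y.basicOpen_le r)) (cst 𝒮 r ^ k) * s' := by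
  let _ := (𝒮.presheaf.map (homOfLE (Y.basicOpen_le r)).op).hom.toAlgebra
  haveI : IsLocalization.Away (cst 𝒮 r) (𝒮.presheaf.obj (op (Y.basicOpen r))) := 𝒮.isQC U hU r
  obtain ⟨⟨x, _, k, rfl⟩, hx⟩ := IsLocalization.surj (Submonoid.powers (cst 𝒮 r)) s'
  exact ⟨k, x, hx.symm.trans (mul_comm _ _)⟩

include hloc in
lemma lm_injective {U D : Y.Opens} (hU : IsAffineOpen U) (hD : IsAffineOpen D) (h : IsBasic U D)
    (y : ProjectiveSpectrum (𝒮.deg D hD)) (z : ProjectiveSpectrum (𝒮.deg U hU)) (e : pt hU hD h y = z) :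
    Function.Injective (lm ℳ hU hD h y z e) := by
  obtain ⟨r, rfl⟩ := h
  subst e
  intro q q' hq
  induction q using LocalizedModule.induction_on with
  | h m s =>
    induction q' using LocalizedModule.induction_on with
    | h m' s' =>
      obtain ⟨s, hs⟩ := s
      obtain ⟨s', hs'⟩ := s'
      rw [lm_mk, lm_mk, LocalizedModule.mk_eq] at hq
      obtain ⟨⟨u', hu'⟩, hu⟩ := hq
      simp only [Submonoid.smul_def, smul_smul] at hu
      obtain ⟨k, a, ha⟩ := exists_ring_lift hU r u'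
      have hc : (𝒮.res hU (hU.basicOpen r) (Y.basicOpen_le r)) (cst 𝒮 r ^ k) ∉ y.asHomogeneousIdeal :=
        cst_notMem hU r y k
      have hane : a ∉ (pt hU (hU.basicOpen r) ⟨r, rfl⟩ y).asHomogeneousIdeal := by
        intro hmem
        have h1 : (𝒮.res hU (hU.basicOpen r) (Y.basicOpen_le r)) a ∈ y.asHomogeneousIdeal := hmem
        rw [ha] at h1
        exact (y.isPrime.mem_or_mem h1).elim hc hu'
      have h0 : ℳ.res hU (hU.basicOpen r) (Y.basicOpen_le r) ((a * s') • m - (a * s) • m') = 0 := by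
        rw [map_sub, map_smulₛₗ, map_smulₛₗ, sub_eq_zero]
        show (𝒮.res hU (hU.basicOpen r) (Y.basicOpen_le r)) (a * s') • _ =
          (𝒮.res hU (hU.basicOpen r) (Y.basicOpen_le r)) (a * s) • _
        rw [map_mul, map_mul, ha]
        simp only [mul_assoc, mul_smul] at hu ⊢
        exact congrArg _ hu
      obtain ⟨l, hl⟩ := hloc.inj U hU r _ h0
      refine LocalizedModule.mk_eq.2 ⟨⟨cst 𝒮 r ^ l * a,
        fun hmem => ((pt hU (hU.basicOpen r) ⟨r, rfl⟩ y).isPrime.mem_or_mem hmem).elim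
          (cst_notMem hU r y l) hane⟩, ?_⟩
      rw [smul_sub, sub_eq_zero, smul_smul, smul_smul] at hl
      simp only [Submonoid.smul_def, smul_smul, mul_assoc]
      exact hl

include hloc in
/-- A fraction on the small open is the image of a fraction on the big one, with the same degrees. -/
lemma exists_frac_lift {U D : Y.Opens} (hU : IsAffineOpen U) (hD : IsAffineOpen D) (h : IsBasic U D)
    {i j : ℕ} (m' : ℳ.mod.val.obj (op D)) (hm' : m' ∈ ℳ.deg D hD i)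
    (s' : 𝒮.presheaf.obj (op D)) (hs' : s' ∈ 𝒮.deg D hD j) :
    ∃ m ∈ ℳ.deg U hU i, ∃ s ∈ 𝒮.deg U hU j, ∃ a : 𝒮.presheaf.obj (op D), IsUnit a ∧
      ℳ.res hU hD h.le m = a • m' ∧ 𝒮.res hU hD h.le s = a * s' ∧ (m' = 0 → m = 0) := by
  classical
  obtain ⟨r, rfl⟩ := h
  obtain ⟨k, m, hm⟩ := hloc.surj U hU r m'
  obtain ⟨q, s, hs⟩ := exists_ring_lift hU r s'
  let ψ := 𝒮.res hU (hU.basicOpen r) (Y.basicOpen_le r)
  have hc : ∀ k, cst 𝒮 r ^ k ∈ 𝒮.deg U hU 0 := fun k => by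
    have := SetLike.pow_mem_graded k (𝒮.str_mem U hU r)
    rwa [smul_zero] at this
  have hm1 : ψ (cst 𝒮 r ^ k) • m' ∈ ℳ.deg (Y.basicOpen r) (hU.basicOpen r) i := by
    have := SetLike.GradedSMul.smul_mem (A := 𝒮.deg (Y.basicOpen r) (hU.basicOpen r)) (ψ.map_mem (hc k)) hm'
    rwa [vadd_eq_add, zero_add] at this
  have hs1 : ψ (cst 𝒮 r ^ q) * s' ∈ 𝒮.deg (Y.basicOpen r) (hU.basicOpen r) j := by
    have := SetLike.mul_mem_graded (ψ.map_mem (hc q)) hs'
    rwa [zero_add] at this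
  have hm2 : ℳ.res hU (hU.basicOpen r) (Y.basicOpen_le r)
      (DirectSum.decompose (ℳ.deg U hU) m i : ℳ.mod.val.obj (op U)) = ψ (cst 𝒮 r ^ k) • m' := by
    rw [res_decompose ℳ hU (hU.basicOpen r) (Y.basicOpen_le r), hm, DirectSum.decompose_of_mem_same _ hm1]
  have hs2 : ψ (DirectSum.decompose (𝒮.deg U hU) s j : 𝒮.presheaf.obj (op U)) = ψ (cst 𝒮 r ^ q) * s' := by
    rw [GradedRingHom.map_directSumDecompose, hs, DirectSum.decompose_of_mem_same _ hs1]
  have hu : ∀ k, IsUnit (ψ (cst 𝒮 r ^ k)) := fun k => by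
    rw [res_cst 𝒮 hU r k]
    exact (((Y.toRingedSpace.isUnit_res_basicOpen r)).pow k).map (𝒮.str.app (op (Y.basicOpen r))).hom
  by_cases h0 : m' = 0
  · refine ⟨0, zero_mem _, cst 𝒮 r ^ k * (DirectSum.decompose (𝒮.deg U hU) s j : 𝒮.presheaf.obj (op U)), ?_, ψ (cst 𝒮 r ^ k) * ψ (cst 𝒮 r ^ q), (hu k).mul (hu q), ?_,
      ?_, fun _ => rfl⟩
    · have := SetLike.mul_mem_graded (hc k) (SetLike.coe_mem (DirectSum.decompose (𝒮.deg U hU) s j))
      rwa [zero_add] at this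
    · rw [map_zero, h0, smul_zero]
    · show ψ _ = _
      rw [map_mul, hs2, mul_assoc]
  refine ⟨cst 𝒮 r ^ q • (DirectSum.decompose (ℳ.deg U hU) m i : ℳ.mod.val.obj (op U)), ?_, cst 𝒮 r ^ k * (DirectSum.decompose (𝒮.deg U hU) s j : 𝒮.presheaf.obj (op U)), ?_, ψ (cst 𝒮 r ^ k) * ψ (cst 𝒮 r ^ q), (hu k).mul (hu q), ?_,
    ?_, fun h => absurd h h0⟩
  · have := SetLike.GradedSMul.smul_mem (A := 𝒮.deg U hU) (hc q)
      (SetLike.coe_mem (DirectSum.decompose (ℳ.deg U hU) m i))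
    rwa [vadd_eq_add, zero_add] at this
  · have := SetLike.mul_mem_graded (hc k) (SetLike.coe_mem (DirectSum.decompose (𝒮.deg U hU) s j))
    rwa [zero_add] at this
  · rw [map_smulₛₗ, hm2, smul_smul, mul_comm]
    rfl
  · show ψ _ = _
    rw [map_mul, hs2, mul_assoc]

include hloc in
lemma lm_surjective {U D : Y.Opens} (hU : IsAffineOpen U) (hD : IsAffineOpen D) (h : IsBasic U D)
    (y : ProjectiveSpectrum (𝒮.deg D hD)) (z : ProjectiveSpectrum (𝒮.deg U hU)) (e : pt hU hD h y = z) :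
    Function.Surjective (lm ℳ hU hD h y z e) := by
  obtain ⟨r, rfl⟩ := h
  subst e
  intro q
  induction q using LocalizedModule.induction_on with
  | h m' s' =>
    obtain ⟨s', hs'⟩ := s'
    obtain ⟨k, m, hm⟩ := hloc.surj U hU r m'
    obtain ⟨l, s, hs⟩ := exists_ring_lift hU r s'
    have hsne : s ∉ (pt hU (hU.basicOpen r) ⟨r, rfl⟩ y).asHomogeneousIdeal := fun hmem => by
      have h1 : (𝒮.res hU (hU.basicOpen r) (Y.basicOpen_le r)) s ∈ y.asHomogeneousIdeal := hmem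
      rw [hs] at h1
      exact (y.isPrime.mem_or_mem h1).elim (cst_notMem hU r y l) hs'
    refine ⟨LocalizedModule.mk (cst 𝒮 r ^ l • m) ⟨cst 𝒮 r ^ k * s,
      fun hmem => ((pt hU (hU.basicOpen r) ⟨r, rfl⟩ y).isPrime.mem_or_mem hmem).elim
        (cst_notMem hU r y k) hsne⟩, ?_⟩
    rw [lm_mk, LocalizedModule.mk_eq]
    refine ⟨1, ?_⟩
    simp only [one_smul, Submonoid.smul_def, map_smulₛₗ, map_mul, hm, hs, smul_smul]
    congr 1
    show s' * ((𝒮.res hU (hU.basicOpen r) (Y.basicOpen_le r)) (cst 𝒮 r ^ l) * _) = _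
    ring

variable (p : P ⟶ Y)
  (chart : ∀ (U : Y.Opens) (hU : IsAffineOpen U), (((p ⁻¹ᵁ U : P.Opens) : Scheme.{u}) ≅ Proj (𝒮.deg U hU)))
  (hP : RelProj.IsRelProj 𝒮 p chart) (n : ℤ)

local notation "emb" => RelProj.emb p chart

include hP in
lemma emb_pt {U D : Y.Opens} (hU : IsAffineOpen U) (hD : IsAffineOpen D) (h : IsBasic U D)
    (y : ProjectiveSpectrum (𝒮.deg D hD)) : (emb U hU) (pt hU hD h y) = (emb D hD) y := by
  obtain ⟨r, rfl⟩ := h
  exact congrArg (fun ψ : Proj (𝒮.deg (Y.basicOpen r) (hU.basicOpen r)) ⟶ P => ψ.base y)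
    (RelProj.map_res_emb hP U hU r)

lemma mem_of_chart {U : Y.Opens} (hU : IsAffineOpen U) (z : ProjectiveSpectrum (𝒮.deg U hU)) :
    p ((emb U hU) z) ∈ U := by
  have : (emb U hU) z ∈ p ⁻¹ᵁ U := by rw [← opensRange_emb p chart U hU]; exact ⟨z, rfl⟩
  exact this

include hP in
lemma exists_pt {U D : Y.Opens} (hU : IsAffineOpen U) (hD : IsAffineOpen D) (h : IsBasic U D)
    (z : ProjectiveSpectrum (𝒮.deg U hU)) (hz : p ((emb U hU) z) ∈ D) :
    ∃ w, pt hU hD h w = z := by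
  have : (emb U hU) z ∈ (emb D hD).opensRange := by rw [opensRange_emb]; exact hz
  obtain ⟨w, hw⟩ := this
  exact ⟨w, (emb U hU).isOpenEmbedding.injective ((emb_pt p chart hP hU hD h w).trans hw)⟩

end Groth.Agent.RelTildeX.Exists
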