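import Groth.Agent.RelTildeX.Props

/-!
Quasi-coherence of twisting sheaves; vanishing in high degrees of modules with vanishing `ℳ~`.
-/

noncomputable section

universe u

open CategoryTheory CategoryTheory.Limits AlgebraicGeometry TopologicalSpace Opposite Groth.Agent.QCoh
open scoped HomogeneousIdeal

namespace Groth.Agent.RelTildeX

variable {Y P : Scheme.{u}} {𝒮 : RelProj.QCGrAlg Y} {p : P ⟶ Y}
  {chart : ∀ (U : Y.Opens) (hU : IsAffineOpen U), (((p ⁻¹ᵁ U : P.Opens) : Scheme.{u}) ≅ Proj (𝒮.deg U hU))}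

theorem isQCoh_twist {n : ℤ} {L : P.Modules}
    {lam : ∀ (U : Y.Opens) (hU : IsAffineOpen U),
      L ⟶ (Scheme.Modules.pushforward (RelProj.emb p chart U hU)).obj (GrTwist.twist (𝒮.deg U hU) n)}
    (hL : RelProj.IsRelTwist 𝒮 p chart n L lam) : Coh.IsQCoh L :=
  isQCoh_of_openCover (embCover p chart) fun U =>
    (isQCoh_iff_iso (twistIso hL U.1 U.2)).2 (GrModX.isQCoh_tilde (𝒮.deg U.1 U.2) (𝒮.deg U.1 U.2) n)

lemma map_decompose' {M N : Type u} [AddCommGroup M] [AddCommGroup N] (f : M →+ N)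
    (ℳ : ℕ → AddSubgroup M) [DirectSum.Decomposition ℳ] (𝒩 : ℕ → AddSubgroup N) [DirectSum.Decomposition 𝒩]
    (hf : ∀ j, ∀ m ∈ ℳ j, f m ∈ 𝒩 j) (z : M) (k : ℕ) :
    f (DirectSum.decompose ℳ z k : M) = (DirectSum.decompose 𝒩 (f z) k : N) := by
  classical
  induction z using DirectSum.Decomposition.inductionOn ℳ with
  | zero => simp
  | @homogeneous j m =>
    rcases eq_or_ne j k with rfl | hne
    · rw [DirectSum.decompose_of_mem_same _ m.2, DirectSum.decompose_of_mem_same _ (hf j _ m.2)]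
    · rw [DirectSum.decompose_of_mem_ne _ m.2 hne, DirectSum.decompose_of_mem_ne _ (hf j _ m.2) hne, map_zero]
  | add a b ha hb =>
    simp only [DirectSum.decompose_add, DirectSum.add_apply, AddSubgroup.coe_add, map_add, ha, hb]

/-- Restriction between affine opens commutes with taking homogeneous components. -/
lemma res_decompose (ℳ : RelProj.GrModule 𝒮) {U V : Y.Opens} (hU : IsAffineOpen U) (hV : IsAffineOpen V)
    (i : V ≤ U) (z : ℳ.mod.val.obj (op U)) (k : ℕ) :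
    ℳ.res hU hV i (DirectSum.decompose (ℳ.deg U hU) z k : ℳ.mod.val.obj (op U)) =
      (DirectSum.decompose (ℳ.deg V hV) (ℳ.res hU hV i z) k : ℳ.mod.val.obj (op V)) :=
  map_decompose' (ℳ.res hU hV i).toAddMonoidHom (ℳ.deg U hU) (ℳ.deg V hV)
    (fun j m hm => ℳ.res_mem hU hV i j m hm) z k

/-- For a quasi-coherent graded module, a degree vanishing on an affine open vanishes on its basic opens. -/
lemma eq_zero_basicOpen (ℳ : RelProj.GrModule 𝒮) (hℳ : Coh.IsQCoh ((AMod.toOS 𝒮.toQCAlg).obj ℳ.mod))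
    {U : Y.Opens} (hU : IsAffineOpen U) (r : Γ(Y, U)) (k : ℕ) (h : ∀ m ∈ ℳ.deg U hU k, m = 0)
    (z : ℳ.mod.val.obj (op (Y.basicOpen r))) (hz : z ∈ ℳ.deg (Y.basicOpen r) (hU.basicOpen r) k) : z = 0 := by
  classical
  obtain ⟨q, z₀, hz₀⟩ := exists_pow_smul_eq_map hℳ hU r
    (show Γ((AMod.toOS 𝒮.toQCAlg).obj ℳ.mod, Y.basicOpen r) from z)
  let c := (𝒮.str.app (op (Y.basicOpen r))).hom (Y.presheaf.map (homOfLE (Y.basicOpen_le r)).op r ^ q)
  have hc : c • z = ℳ.res hU (hU.basicOpen r) (Y.basicOpen_le r) z₀ := hz₀.symm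
  have hmem : c • z ∈ ℳ.deg (Y.basicOpen r) (hU.basicOpen r) k := by
    have h1 := SetLike.GradedSMul.smul_mem (A := 𝒮.deg (Y.basicOpen r) (hU.basicOpen r))
      (𝒮.str_mem (Y.basicOpen r) (hU.basicOpen r)
        (Y.presheaf.map (homOfLE (Y.basicOpen_le r)).op r ^ q)) hz
    rwa [vadd_eq_add, zero_add] at h1
  have h0 : c • z = 0 := by
    rw [← DirectSum.decompose_of_mem_same _ hmem, hc, ← res_decompose ℳ hU,
      h _ (SetLike.coe_mem (DirectSum.decompose (ℳ.deg U hU) z₀ k)), map_zero]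
  exact (IsUnit.smul_eq_zero ((((Y.toRingedSpace.isUnit_res_basicOpen r)).pow q).map
    (𝒮.str.app (op (Y.basicOpen r))).hom)).1 h0

theorem isTN_of_charts [CompactSpace Y] (ℳ : RelProj.GrModule 𝒮)
    (hℳ : Coh.IsQCoh ((AMod.toOS 𝒮.toQCAlg).obj ℳ.mod))
    (h : ∀ (U : Y.Opens) (hU : IsAffineOpen U), ∃ n : ℕ, ∀ k, n ≤ k → ∀ m ∈ ℳ.deg U hU k, m = 0) :
    ℳ.IsTN := by
  classical
  choose n hn using h
  obtain ⟨t, ht⟩ := (isCompact_univ (X := Y)).elim_finite_subcover (fun U : Y.affineOpens => (U.1 : Set Y))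
    (fun U => U.1.2) (fun x _ => by
      obtain ⟨_, ⟨U, hU, rfl⟩, hxU, -⟩ := Y.isBasis_affineOpens.exists_subset_of_mem_open
        (Set.mem_univ x) isOpen_univ
      exact Set.mem_iUnion.2 ⟨⟨U, hU⟩, hxU⟩)
  refine ⟨t.sup fun U => n U.1 U.2, fun V hV k hk m hm => ?_⟩
  choose U hU hxU using fun x : V => Set.mem_iUnion₂.1 (ht (Set.mem_univ x.1))
  choose g g' e hxg using fun x : V => exists_basicOpen_le_affine_inter hV (U x).2 x.1 ⟨x.2, hxU x⟩
  refine TopCat.Sheaf.eq_of_locally_eq' ⟨ℳ.mod.val.presheaf, ℳ.mod.isSheaf⟩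
    (fun x : V => Y.basicOpen (g x)) V (fun x => homOfLE (Y.basicOpen_le (g x)))
    (fun x hx => Opens.mem_iSup.2 ⟨⟨x, hx⟩, hxg ⟨x, hx⟩⟩) m 0 fun x => ?_
  refine Eq.trans ?_ (map_zero _).symm
  have h1 := ℳ.map_mem hV (hV.basicOpen (g x)) (Y.basicOpen_le (g x)) hm
  have h2 : ∀ (D : Y.Opens) (hD : IsAffineOpen D), D = Y.basicOpen (g' x) →
      ∀ z ∈ ℳ.deg D hD k, z = 0 := by
    rintro D hD rfl z hz
    exact eq_zero_basicOpen ℳ hℳ (U x).2 (g' x) k (hn _ _ k ((Finset.le_sup (f := fun U : Y.affineOpens => n U.1 U.2) (hU x)).trans hk)) z hz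
  exact h2 _ _ (e x) _ h1

end Groth.Agent.RelTildeX
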