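import Groth.Agent.QCoh.CokerQC
import Groth.Agent.QCoh.FT
import Mathlib.Algebra.Homology.ShortComplex.Exact

/-!
Local criteria for epimorphisms, exactness, finite type and vanishing of sheaves of modules.
-/

noncomputable section

universe u

open CategoryTheory CategoryTheory.Limits AlgebraicGeometry TopologicalSpace Opposite Groth.Agent.QCoh

namespace Groth.Agent.RelTildeX

variable {X : Scheme.{u}}

theorem epi_of_locally {M N : X.Modules} (φ : M ⟶ N)
    (h : ∀ (U : X.Opens) (s : Γ(N, U)) (x : X), x ∈ U →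
      ∃ (V : X.Opens) (i : V ≤ U), x ∈ V ∧ ∃ t : Γ(M, V), φ.app V t = N.presheaf.map (homOfLE i).op s) :
    Epi φ := by
  haveI : Epi ((toAbFunctor X).map φ) := by
    refine (TopCat.Sheaf.isLocallySurjective_iff_epi (X := X.toPresheafedSpace.carrier)
      ((toAbFunctor X).map φ)).1 ((TopCat.Presheaf.isLocallySurjective_iff _).2 ?_)
    intro U s x hx
    obtain ⟨V, i, hxV, t, ht⟩ := h U s x hx
    exact ⟨V, i, ⟨t, ht⟩, hxV⟩
  haveI : (toAbFunctor X).Faithful := inferInstanceAs (SheafOfModules.toSheaf X.ringCatSheaf).Faithful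
  exact (toAbFunctor X).epi_of_epi_map inferInstance

theorem exact_of_locally (S : ShortComplex X.Modules)
    (h : ∀ (U : X.Opens) (s : Γ(S.X₂, U)), S.g.app U s = 0 → ∀ x ∈ U,
      ∃ (V : X.Opens) (i : V ≤ U), x ∈ V ∧
        ∃ t : Γ(S.X₁, V), S.f.app V t = S.X₂.presheaf.map (homOfLE i).op s) :
    S.Exact := by
  rw [S.exact_iff_epi_kernel_lift]
  refine epi_of_locally _ fun U s x hx => ?_
  have h0 : S.g.app U ((kernel.ι S.g).app U s) = 0 := by
    exact congrArg (fun ψ : kernel S.g ⟶ S.X₃ => ψ.app U s) (kernel.condition S.g)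
  obtain ⟨V, i, hxV, t, ht⟩ := h U _ h0 x hx
  refine ⟨V, i, hxV, t, ?_⟩
  refine app_injective (kernel.ι S.g) V ?_
  rw [map_app_comm, ← ht]
  exact congrArg (fun ψ : S.X₁ ⟶ S.X₂ => ψ.app V t) (kernel.lift_ι S.g S.f S.zero)

theorem isZero_of_locally (M : X.Modules)
    (h : ∀ x : X, ∃ V : X.Opens, x ∈ V ∧ ∀ W : X.Opens, W ≤ V → Subsingleton Γ(M, W)) : IsZero M := by
  rw [IsZero.iff_id_eq_zero]
  refine Scheme.Modules.hom_ext _ _ fun U => ?_
  ext s
  refine eq_zero_of_locally U _ fun p hp => ?_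
  obtain ⟨V, hpV, hV⟩ := h p
  haveI := hV (U ⊓ V) inf_le_right
  exact ⟨U ⊓ V, homOfLE inf_le_left, ⟨hp, hpV⟩, Subsingleton.elim _ _⟩

/-- Finiteness of sections passes from a restriction to the image open. -/
theorem finite_image {Z : Scheme.{u}} (e : Z ⟶ X) [IsOpenImmersion e] (M : X.Modules) (V : Z.Opens)
    (h : Module.Finite Γ(Z, V) Γ(M.restrict e, V)) : Module.Finite Γ(X, e ''ᵁ V) Γ(M, e ''ᵁ V) := by
  let σ : Γ(Z, V) →+* Γ(X, e ''ᵁ V) := (e.appIso V).inv.hom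
  haveI : RingHomSurjective σ :=
    ⟨(e.appIso V).symm.commRingCatIsoToRingEquiv.surjective⟩
  let l : Γ(M.restrict e, V) →ₛₗ[σ] Γ(M, e ''ᵁ V) :=
    { toFun := fun x => (M.restrictAppIso e V).hom x
      map_add' := fun _ _ => rfl
      map_smul' := fun _ _ => rfl }
  exact Module.Finite.of_surjective l fun y => ⟨(M.restrictAppIso e V).inv y, rfl⟩

/-- Finite type may be checked on an open cover. -/
theorem isFT_of_openCover {M : X.Modules} (𝒰 : Scheme.OpenCover.{u} X) (hM : Coh.IsQCoh M)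
    (h : ∀ i, CohB1.IsFT (M.restrict (𝒰.f i))) : CohB1.IsFT M := by
  refine isFT_of_finite hM (ι := Σ i : 𝒰.I₀, (𝒰.X i).affineOpens) (fun p => 𝒰.f p.1 ''ᵁ p.2.1)
    (top_le_iff.1 fun x _ => ?_) (fun p => p.2.2.image_of_isOpenImmersion (𝒰.f p.1)) fun p =>
      finite_image (𝒰.f p.1) M p.2.1 (finite_of_isFT (isQCoh_restrict _ hM) (h p.1) p.2.2)
  obtain ⟨y, hy⟩ := 𝒰.covers x
  obtain ⟨_, ⟨W, hW, rfl⟩, hyW, -⟩ :=
    (𝒰.X _).isBasis_affineOpens.exists_subset_of_mem_open (Set.mem_univ y) isOpen_univ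
  exact Opens.mem_iSup.2 ⟨⟨𝒰.idx x, ⟨W, hW⟩⟩, y, hyW, hy⟩

end Groth.Agent.RelTildeX
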