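import Groth.Agent.RelTildeX.Chart
import Groth.Agent.RelTildeX.SheafCrit
import Groth.Agent.GrModX.MapProps
import Groth.Agent.GrModX.Finite

/-!
Quasi-coherence, finiteness, vanishing and exactness of the modules `ℳ~` on a relative `Proj`.
-/

noncomputable section

universe u

open CategoryTheory CategoryTheory.Limits AlgebraicGeometry TopologicalSpace Opposite Groth.Agent.QCoh
open scoped HomogeneousIdeal

namespace Groth.Agent.RelTildeX

section general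

variable {X P : Scheme.{u}} (e : X ⟶ P) [IsOpenImmersion e] {F G : P.Modules} {N N' : X.Modules}
  (l : F ⟶ (Scheme.Modules.pushforward e).obj N) (l' : G ⟶ (Scheme.Modules.pushforward e).obj N')

lemma chartHom_natural (φ : F ⟶ G) (g : N ⟶ N') (h : φ ≫ l' = l ≫ (Scheme.Modules.pushforward e).map g) :
    (Scheme.Modules.restrictFunctor e).map φ ≫ chartHom e l' = chartHom e l ≫ g := by
  rw [chartHom, chartHom, ← Category.assoc, ← Functor.map_comp, h, Functor.map_comp, Category.assoc,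
    Category.assoc]
  exact congrArg _ ((Scheme.Modules.restrictAdjunction e).counit.naturality g)

lemma chartHom_natural_app (φ : F ⟶ G) (g : N ⟶ N') (h : φ ≫ l' = l ≫ (Scheme.Modules.pushforward e).map g)
    (D : X.Opens) (s : Γ(F, e ''ᵁ D)) :
    (chartHom e l').app D (φ.app (e ''ᵁ D) s) = g.app D ((chartHom e l).app D s) :=
  congrArg (fun ψ : F.restrict e ⟶ N' => ψ.app D s) (chartHom_natural e l l' φ g h)

lemma chartHom_bijective (h : ∀ W : P.Opens, W ≤ e.opensRange → Function.Bijective (l.app W)) (D : X.Opens) :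
    Function.Bijective ((chartHom e l).app D) :=
  haveI := isIso_chartHom e l h
  ((ConcreteCategory.isIso_iff_bijective _).1 inferInstance)

lemma isFT_of_iso_qcoh {M L : X.Modules} (i : M ≅ L) (hM : Coh.IsQCoh M) (h : CohB1.IsFT M) :
    CohB1.IsFT L := by
  refine (isFT_iff ((isQCoh_iff_iso i).1 hM)).2 fun U => ?_
  haveI := finite_of_isFT hM h U.2
  let f : Γ(M, U.1) →ₗ[Γ(X, U.1)] Γ(L, U.1) :=
    { toFun := i.hom.app U.1
      map_add' := map_add _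
      map_smul' := fun r x => Scheme.Modules.Hom.app_smul _ r x }
  exact Module.Finite.of_surjective f
    ((ConcreteCategory.isIso_iff_bijective (i.hom.app U.1)).1 inferInstance).2

end general

/-- A morphism of `𝒮`-modules on sections, as a linear map over the ring of sections. -/
abbrev uMap {Y : Scheme.{u}} {𝒮 : RelProj.QCGrAlg Y} {ℳ 𝒩 : RelProj.GrModule 𝒮} (u : ℳ.mod ⟶ 𝒩.mod)
    (U : Y.Opens) : ℳ.mod.val.obj (op U) →ₗ[𝒮.presheaf.obj (op U)] 𝒩.mod.val.obj (op U) :=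
  (u.val.app (op U)).hom

variable {Y P : Scheme.{u}} {𝒮 : RelProj.QCGrAlg Y} {p : P ⟶ Y}
  {chart : ∀ (U : Y.Opens) (hU : IsAffineOpen U), (((p ⁻¹ᵁ U : P.Opens) : Scheme.{u}) ≅ Proj (𝒮.deg U hU))}

/-- Every point of an open of a relative Proj has a standard neighbourhood inside it. -/
lemma exists_chart_nhd {W : P.Opens} {x : P} (hx : x ∈ W) :
    ∃ (U : Y.Opens) (hU : IsAffineOpen U) (f : 𝒮.presheaf.obj (op U)) (d : ℕ), 0 < d ∧ f ∈ 𝒮.deg U hU d ∧
      x ∈ RelProj.emb p chart U hU ''ᵁ Proj.basicOpen (𝒮.deg U hU) f ∧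
      RelProj.emb p chart U hU ''ᵁ Proj.basicOpen (𝒮.deg U hU) f ≤ W := by
  obtain ⟨_, ⟨U, hU, rfl⟩, hxU, -⟩ := Y.isBasis_affineOpens.exists_subset_of_mem_open
    (Set.mem_univ (p x)) isOpen_univ
  have hxr : x ∈ (RelProj.emb p chart U hU).opensRange := by rw [opensRange_emb]; exact hxU
  obtain ⟨y, rfl⟩ := hxr
  obtain ⟨f, d, hd, hf, hyf, hfV⟩ :=
    GrModX.exists_basicOpen_le (𝒮.deg U hU) (V := RelProj.emb p chart U hU ⁻¹ᵁ W) (y := y) hx
  exact ⟨U, hU, f, d, hd, hf, ⟨y, hyf, rfl⟩,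
    ((RelProj.emb p chart U hU).image_mono hfV).trans ((RelProj.emb p chart U hU).image_preimage_le W)⟩

section one

variable {ℳ : RelProj.GrModule 𝒮} {n : ℤ} {F : P.Modules}
  {lam : ∀ (U : Y.Opens) (hU : IsAffineOpen U),
    F ⟶ (Scheme.Modules.pushforward (RelProj.emb p chart U hU)).obj (GrMod.tilde (𝒮.deg U hU) (ℳ.deg U hU) n)}
  (hF : RelProj.IsRelTilde 𝒮 p chart ℳ n F lam)

include hF

theorem isQCoh : Coh.IsQCoh F :=
  isQCoh_of_openCover (embCover p chart) fun U =>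
    (isQCoh_iff_iso (tildeIso hF U.1 U.2)).2 (GrModX.isQCoh_tilde (𝒮.deg U.1 U.2) (ℳ.deg U.1 U.2) n)

lemma lam_bijective (U : Y.Opens) (hU : IsAffineOpen U) (D : (Proj (𝒮.deg U hU)).Opens) :
    Function.Bijective ((chartHom (RelProj.emb p chart U hU) (lam U hU)).app D) :=
  chartHom_bijective _ _ (fun W hW => hF.bijective U hU W ((opensRange_emb p chart U hU).le.trans' hW)) D

theorem isZero_of_charts (h : ∀ (U : Y.Opens) (hU : IsAffineOpen U),
    IsZero (GrMod.tilde (𝒮.deg U hU) (ℳ.deg U hU) n)) : IsZero F := by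
  refine isZero_of_locally F fun x => ?_
  obtain ⟨_, ⟨U, hU, rfl⟩, hxU, -⟩ := Y.isBasis_affineOpens.exists_subset_of_mem_open
    (Set.mem_univ (p x)) isOpen_univ
  refine ⟨p ⁻¹ᵁ U, hxU, fun W hW => ?_⟩
  haveI := GrModX.subsingleton_of_isZero (h U hU) (RelProj.emb p chart U hU ⁻¹ᵁ W)
  exact ⟨fun a b => (hF.bijective U hU W hW).1 (Subsingleton.elim (α :=
    Γ(GrMod.tilde (𝒮.deg U hU) (ℳ.deg U hU) n, RelProj.emb p chart U hU ⁻¹ᵁ W)) _ _)⟩

theorem isZero_tilde (h : IsZero F) (U : Y.Opens) (hU : IsAffineOpen U) :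
    IsZero (GrMod.tilde (𝒮.deg U hU) (ℳ.deg U hU) n) :=
  ((Scheme.Modules.restrictFunctor (RelProj.emb p chart U hU)).map_isZero h).of_iso (tildeIso hF U hU).symm

theorem isFT (h : ∀ (U : Y.Opens) (hU : IsAffineOpen U),
    CohB1.IsFT (GrMod.tilde (𝒮.deg U hU) (ℳ.deg U hU) n)) : CohB1.IsFT F := by
  refine isFT_of_openCover (embCover p chart) (isQCoh hF) fun U => ?_
  exact isFT_of_iso_qcoh (tildeIso hF U.1 U.2).symm
    (GrModX.isQCoh_tilde (𝒮.deg U.1 U.2) (ℳ.deg U.1 U.2) n) (h U.1 U.2)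

end one

section two

variable {ℳ 𝒩 : RelProj.GrModule 𝒮} {u : ℳ.mod ⟶ 𝒩.mod} {hu : RelProj.IsGrModHom u} {n : ℤ}
  {F G : P.Modules}
  {lam : ∀ (U : Y.Opens) (hU : IsAffineOpen U),
    F ⟶ (Scheme.Modules.pushforward (RelProj.emb p chart U hU)).obj (GrMod.tilde (𝒮.deg U hU) (ℳ.deg U hU) n)}
  {lam' : ∀ (U : Y.Opens) (hU : IsAffineOpen U),
    G ⟶ (Scheme.Modules.pushforward (RelProj.emb p chart U hU)).obj (GrMod.tilde (𝒮.deg U hU) (𝒩.deg U hU) n)}
  {ut : F ⟶ G}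

/-- `ut` is `ũ` in every chart. -/
def IsTildeMap (lam : ∀ (U : Y.Opens) (hU : IsAffineOpen U),
      F ⟶ (Scheme.Modules.pushforward (RelProj.emb p chart U hU)).obj (GrMod.tilde (𝒮.deg U hU) (ℳ.deg U hU) n))
    (lam' : ∀ (U : Y.Opens) (hU : IsAffineOpen U),
      G ⟶ (Scheme.Modules.pushforward (RelProj.emb p chart U hU)).obj (GrMod.tilde (𝒮.deg U hU) (𝒩.deg U hU) n))
    (hu : RelProj.IsGrModHom u) (ut : F ⟶ G) : Prop :=
  ∀ (U : Y.Opens) (hU : IsAffineOpen U),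
    ut ≫ lam' U hU =
      lam U hU ≫ (Scheme.Modules.pushforward (RelProj.emb p chart U hU)).map
        (GrMod.map (𝒮.deg U hU)
          (show ℳ.mod.val.obj (op U) →ₗ[𝒮.presheaf.obj (op U)] 𝒩.mod.val.obj (op U) from (u.val.app (op U)).hom)
          (hu U hU) n)

theorem mono_map (hF : RelProj.IsRelTilde 𝒮 p chart ℳ n F lam)
    (hut : IsTildeMap lam lam' hu ut) (n₀ : ℕ)
    (hinj : ∀ (U : Y.Opens) (hU : IsAffineOpen U) (k : ℕ), n₀ ≤ k →
      ∀ m ∈ ℳ.deg U hU k, (u.val.app (op U)).hom m = 0 → m = 0) : Mono ut := by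
  refine mono_of_app_injective ut fun W => (injective_iff_map_eq_zero _).2 fun s hs => ?_
  refine eq_zero_of_locally W s fun x hx => ?_
  obtain ⟨U, hU, f, d, hd, hf, hxV, hVW⟩ := exists_chart_nhd (p := p) (chart := chart) hx
  refine ⟨_, homOfLE hVW, hxV, (lam_bijective hF U hU _).1 ?_⟩
  refine Eq.trans ?_ (map_zero _).symm
  refine GrModX.map_app_injective (𝒮.deg U hU) (uMap u U) (hu U hU) n₀ (hinj U hU) n hd hf ?_
  refine Eq.trans ?_ (map_zero _).symm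
  refine (chartHom_natural_app _ _ _ _ _ (hut U hU) _ _).symm.trans ?_
  rw [map_app_comm, hs, map_zero]
  exact map_zero _

theorem epi_map (hF : RelProj.IsRelTilde 𝒮 p chart ℳ n F lam) (hG : RelProj.IsRelTilde 𝒮 p chart 𝒩 n G lam')
    (hut : IsTildeMap lam lam' hu ut) (n₀ : ℕ)
    (hsurj : ∀ (U : Y.Opens) (hU : IsAffineOpen U) (k : ℕ), n₀ ≤ k →
      ∀ m' ∈ 𝒩.deg U hU k, ∃ m ∈ ℳ.deg U hU k, (u.val.app (op U)).hom m = m') : Epi ut := by
  refine epi_of_locally ut fun W s x hx => ?_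
  obtain ⟨U, hU, f, d, hd, hf, hxV, hVW⟩ := exists_chart_nhd (p := p) (chart := chart) hx
  obtain ⟨t₀, ht₀⟩ := GrModX.map_app_surjective (𝒮.deg U hU) (uMap u U) (hu U hU) n₀ (hsurj U hU) n hd hf
    ((chartHom (RelProj.emb p chart U hU) (lam' U hU)).app _ (G.presheaf.map (homOfLE hVW).op s))
  obtain ⟨t, rfl⟩ := (lam_bijective hF U hU (Proj.basicOpen (𝒮.deg U hU) f)).2 t₀
  exact ⟨_, hVW, hxV, t, (lam_bijective hG U hU _).1 ((chartHom_natural_app _ _ _ _ _ (hut U hU) _ _).trans ht₀)⟩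

end two

section three

variable {ℳ₁ ℳ₂ ℳ₃ : RelProj.GrModule 𝒮} {u : ℳ₁.mod ⟶ ℳ₂.mod} {hu : RelProj.IsGrModHom u}
  {v : ℳ₂.mod ⟶ ℳ₃.mod} {hv : RelProj.IsGrModHom v} {n : ℤ} {F₁ F₂ F₃ : P.Modules}
  {lam₁ : ∀ (U : Y.Opens) (hU : IsAffineOpen U),
    F₁ ⟶ (Scheme.Modules.pushforward (RelProj.emb p chart U hU)).obj (GrMod.tilde (𝒮.deg U hU) (ℳ₁.deg U hU) n)}
  {lam₂ : ∀ (U : Y.Opens) (hU : IsAffineOpen U),
    F₂ ⟶ (Scheme.Modules.pushforward (RelProj.emb p chart U hU)).obj (GrMod.tilde (𝒮.deg U hU) (ℳ₂.deg U hU) n)}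
  {lam₃ : ∀ (U : Y.Opens) (hU : IsAffineOpen U),
    F₃ ⟶ (Scheme.Modules.pushforward (RelProj.emb p chart U hU)).obj (GrMod.tilde (𝒮.deg U hU) (ℳ₃.deg U hU) n)}
  {ut : F₁ ⟶ F₂} {vt : F₂ ⟶ F₃}

theorem exact_map (hF₁ : RelProj.IsRelTilde 𝒮 p chart ℳ₁ n F₁ lam₁)
    (hF₂ : RelProj.IsRelTilde 𝒮 p chart ℳ₂ n F₂ lam₂)
    (hut : IsTildeMap lam₁ lam₂ hu ut) (hvt : IsTildeMap lam₂ lam₃ hv vt)
    (hex : ∀ (U : Y.Opens), IsAffineOpen U → Function.Exact (u.val.app (op U)).hom (v.val.app (op U)).hom)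
    (w : ut ≫ vt = 0) : (ShortComplex.mk ut vt w).Exact := by
  refine exact_of_locally _ fun W (s : Γ(F₂, W)) (hs : vt.app W s = 0) x hx => ?_
  obtain ⟨U, hU, f, d, hd, hf, hxV, hVW⟩ := exists_chart_nhd (p := p) (chart := chart) hx
  let c₂ := (chartHom (RelProj.emb p chart U hU) (lam₂ U hU)).app (Proj.basicOpen (𝒮.deg U hU) f)
    (F₂.presheaf.map (homOfLE hVW).op s)
  have h0 : (GrMod.map (𝒮.deg U hU) (uMap v U) (hv U hU) n).app (Proj.basicOpen (𝒮.deg U hU) f) c₂ = 0 := by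
    refine (chartHom_natural_app _ _ _ _ _ (hvt U hU) _ _).symm.trans ?_
    rw [map_app_comm, hs, map_zero]
    exact map_zero _
  obtain ⟨t₀, ht₀⟩ := (GrModX.map_app_exact (𝒮.deg U hU) (uMap u U) (hu U hU) (uMap v U) (hv U hU) (hex U hU) n hd hf c₂).1 h0
  obtain ⟨t, rfl⟩ := (lam_bijective hF₁ U hU (Proj.basicOpen (𝒮.deg U hU) f)).2 t₀
  exact ⟨_, hVW, hxV, t, (lam_bijective hF₂ U hU _).1 ((chartHom_natural_app _ _ _ _ _ (hut U hU) _ _).trans ht₀)⟩

end three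

section alg

/-- For an algebra generated in degree one, the irrelevant ideal is generated by degree one. -/
lemma irrelevant_eq_span_deg_one (hgen : 𝒮.IsGenDegOne) (U : Y.Opens) (hU : IsAffineOpen U) :
    ((𝒮.deg U hU)₊).toIdeal = Ideal.span (𝒮.deg U hU 1 : Set _) := by
  refine (Proj16.irrelevant_eq_span_iff (𝒮.deg U hU) _ fun e he => ⟨1, one_pos, he⟩).2 (top_unique ?_)
  intro x _
  have hx : x ∈ (⊤ : Subring (𝒮.presheaf.obj (op U))) := trivial
  rw [← hgen U hU] at hx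
  induction hx using Subring.closure_induction with
  | mem y hy =>
    rcases hy with hy | hy
    · exact Subalgebra.algebraMap_mem _ (⟨y, hy⟩ : 𝒮.deg U hU 0)
    · exact Algebra.subset_adjoin hy
  | zero => exact zero_mem _
  | one => exact one_mem _
  | add a b _ _ ha hb => exact add_mem (ha trivial) (hb trivial)
  | neg a _ ha => exact neg_mem (ha trivial)
  | mul a b _ _ ha hb => exact mul_mem (ha trivial) (hb trivial)

lemma irrelevant_fg (hgen : 𝒮.IsGenDegOne) (hft : 𝒮.IsFTDeg 1) (U : Y.Opens) (hU : IsAffineOpen U) :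
    ((𝒮.deg U hU)₊).toIdeal.FG := by
  obtain ⟨T, hT, hgenT⟩ := hft U hU
  refine ⟨T, le_antisymm (Ideal.span_le.2 fun t ht =>
    HomogeneousIdeal.mem_irrelevant_of_mem _ one_pos (hT ht)) ?_⟩
  rw [irrelevant_eq_span_deg_one hgen U hU, Ideal.span_le]
  intro x hx
  obtain ⟨c, rfl⟩ := hgenT x hx
  exact Ideal.sum_mem _ fun t ht => Ideal.mul_mem_left _ _ (Ideal.subset_span ht)

end alg

end Groth.Agent.RelTildeX
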