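import Groth.Prelude.Def_RelProj3
import Mathlib.AlgebraicGeometry.Modules.Sheaf

/-!
Charts of the modules on a relative `Proj`.
-/

noncomputable section

universe u

open CategoryTheory CategoryTheory.Limits AlgebraicGeometry TopologicalSpace Opposite

namespace Groth.Agent.RelTildeX

section general

variable {X P : Scheme.{u}} (e : X ⟶ P) [IsOpenImmersion e] {F : P.Modules} {N : X.Modules}
  (l : F ⟶ (Scheme.Modules.pushforward e).obj N)

/-- The restricted form of a map into a direct image. -/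
def chartHom : F.restrict e ⟶ N :=
  (Scheme.Modules.restrictFunctor e).map l ≫ (Scheme.Modules.restrictAdjunction e).counit.app N

lemma isIso_chartHom (h : ∀ W : P.Opens, W ≤ e.opensRange → Function.Bijective (l.app W)) :
    IsIso (chartHom e l) := by
  refine Scheme.Modules.Hom.isIso_iff_isIso_app.2 fun V => ?_
  rw [chartHom, Scheme.Modules.Hom.comp_app]
  haveI : IsIso (((Scheme.Modules.restrictFunctor e).map l).app V) :=
    (ConcreteCategory.isIso_iff_bijective _).2 (h _ (e.image_le_opensRange V))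
  infer_instance

/-- The chart isomorphism. -/
def chartIso (h : ∀ W : P.Opens, W ≤ e.opensRange → Function.Bijective (l.app W)) : F.restrict e ≅ N :=
  @asIso _ _ _ _ _ (isIso_chartHom e l h)

end general

variable {Y P : Scheme.{u}} {𝒮 : RelProj.QCGrAlg Y} (p : P ⟶ Y)
    (chart : ∀ (U : Y.Opens) (hU : IsAffineOpen U), (((p ⁻¹ᵁ U : P.Opens) : Scheme.{u}) ≅ Proj (𝒮.deg U hU)))

lemma opensRange_emb (U : Y.Opens) (hU : IsAffineOpen U) :
    (RelProj.emb p chart U hU).opensRange = p ⁻¹ᵁ U := by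
  refine Eq.trans ?_ ((p ⁻¹ᵁ U).opensRange_ι)
  exact Scheme.Hom.opensRange_comp_of_isIso _ _

/-- The cover of a relative Proj by the charts. -/
def embCover : P.OpenCover :=
  Scheme.Cover.mkOfCovers Y.affineOpens (fun U => Proj (𝒮.deg U.1 U.2))
    (fun U => RelProj.emb p chart U.1 U.2) (fun x => by
      obtain ⟨_, ⟨U, hU, rfl⟩, hxU, -⟩ := Y.isBasis_affineOpens.exists_subset_of_mem_open
        (Set.mem_univ (p x)) isOpen_univ
      have hx : x ∈ (RelProj.emb p chart U hU).opensRange := by rw [opensRange_emb]; exact hxU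
      obtain ⟨y, hy⟩ := hx
      exact ⟨⟨U, hU⟩, y, hy⟩)
    (fun U => RelProj.isOpenImmersion_emb p chart U.1 U.2)

variable {p chart}

/-- The chart isomorphism of `IsRelTilde`. -/
def tildeIso {ℳ : RelProj.GrModule 𝒮} {n : ℤ} {F : P.Modules}
    {lam : ∀ (U : Y.Opens) (hU : IsAffineOpen U),
      F ⟶ (Scheme.Modules.pushforward (RelProj.emb p chart U hU)).obj (GrMod.tilde (𝒮.deg U hU) (ℳ.deg U hU) n)}
    (hF : RelProj.IsRelTilde 𝒮 p chart ℳ n F lam) (U : Y.Opens) (hU : IsAffineOpen U) :
    F.restrict (RelProj.emb p chart U hU) ≅ GrMod.tilde (𝒮.deg U hU) (ℳ.deg U hU) n :=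
  chartIso _ (lam U hU) fun W hW => hF.bijective U hU W ((opensRange_emb p chart U hU).le.trans' hW)

/-- The chart isomorphism of `IsRelTwist`. -/
def twistIso {n : ℤ} {L : P.Modules}
    {lam : ∀ (U : Y.Opens) (hU : IsAffineOpen U),
      L ⟶ (Scheme.Modules.pushforward (RelProj.emb p chart U hU)).obj (GrTwist.twist (𝒮.deg U hU) n)}
    (hL : RelProj.IsRelTwist 𝒮 p chart n L lam) (U : Y.Opens) (hU : IsAffineOpen U) :
    L.restrict (RelProj.emb p chart U hU) ≅ GrTwist.twist (𝒮.deg U hU) n :=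
  chartIso _ (lam U hU) fun W hW => hL.bijective U hU W ((opensRange_emb p chart U hU).le.trans' hW)

end Groth.Agent.RelTildeX
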