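import Groth.Agent.RelTildeX.ExistsBase

/-!
Existence of the module `(ℳ(n))~` on a relative `Proj`, by gluing the modules of the charts.
-/

noncomputable section

set_option autoImplicit false
set_option backward.isDefEq.respectTransparency false

universe u

open CategoryTheory CategoryTheory.Limits AlgebraicGeometry TopologicalSpace Opposite Groth.Agent.QCoh
open scoped HomogeneousIdeal

namespace Groth.Agent.RelTildeX.Exists

variable {Y P : Scheme.{u}} {𝒮 : RelProj.QCGrAlg Y} {ℳ : RelProj.GrModule 𝒮} (hloc : IsLoc 𝒮 ℳ) (p : P ⟶ Y)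
  (chart : ∀ (U : Y.Opens) (hU : IsAffineOpen U), (((p ⁻¹ᵁ U : P.Opens) : Scheme.{u}) ≅ Proj (𝒮.deg U hU)))
  (hP : RelProj.IsRelProj 𝒮 p chart) (n : ℤ)

local notation "emb" => RelProj.emb p chart

variable (ℳ) in
/-- The chart module, pushed to the relative `Proj`. -/
abbrev Nmod (U : Y.affineOpens) : P.Modules :=
  (Scheme.Modules.pushforward (emb U.1 U.2)).obj (GrMod.tilde (𝒮.deg U.1 U.2) (ℳ.deg U.1 U.2) n)

/-- Pairs of an affine open and a basic open of it. -/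
abbrev Pairs (Y : Scheme.{u}) : Type u :=
  {q : Y.affineOpens × Y.affineOpens // IsBasic q.1.1 q.2.1}

include hP in
lemma map_emb {U D : Y.Opens} (hU : IsAffineOpen U) (hD : IsAffineOpen D) (h : IsBasic U D) :
    Proj.map (𝒮.res hU hD h.le) (irr 𝒮 hU hD h) ≫ emb U hU = emb D hD := by
  obtain ⟨r, rfl⟩ := h
  exact RelProj.map_res_emb hP U hU r

/-- The transition map along a basic open. -/
def tr {U D : Y.Opens} (hU : IsAffineOpen U) (hD : IsAffineOpen D) (h : IsBasic U D) :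
    (Scheme.Modules.pushforward (emb U hU)).obj (GrMod.tilde (𝒮.deg U hU) (ℳ.deg U hU) n) ⟶
      (Scheme.Modules.pushforward (emb D hD)).obj (GrMod.tilde (𝒮.deg D hD) (ℳ.deg D hD) n) :=
  (Scheme.Modules.pushforward (emb U hU)).map
      (GrMod.comap (𝒮.res hU hD h.le) (irr 𝒮 hU hD h) (ℳ.res hU hD h.le) (ℳ.res_mem hU hD h.le) n) ≫
    (Scheme.Modules.pushforwardComp (Proj.map (𝒮.res hU hD h.le) (irr 𝒮 hU hD h)) (emb U hU)).hom.app
      (GrMod.tilde (𝒮.deg D hD) (ℳ.deg D hD) n) ≫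
    (Scheme.Modules.pushforwardCongr (map_emb p chart hP hU hD h)).hom.app
      (GrMod.tilde (𝒮.deg D hD) (ℳ.deg D hD) n)

lemma val_tr (q : Pairs Y) (W : P.Opens) (s : Γ(Nmod ℳ p chart n q.1.1, W))
    (y : ProjectiveSpectrum (𝒮.deg q.1.2.1 q.1.2.2)) (hy : (emb q.1.2.1 q.1.2.2) y ∈ W)
    (hy' : (emb q.1.1.1 q.1.1.2) (pt q.1.1.2 q.1.2.2 q.2 y) ∈ W) :
    GrMod.val (V := emb q.1.2.1 q.1.2.2 ⁻¹ᵁ W) ((tr p chart hP n q.1.1.2 q.1.2.2 q.2).app W s) ⟨y, hy⟩ =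
      lm ℳ q.1.1.2 q.1.2.2 q.2 y _ rfl (GrMod.val (V := emb q.1.1.1 q.1.1.2 ⁻¹ᵁ W) s ⟨_, hy'⟩) := by
  rfl

/-- The two maps between the products. -/
def trLeft : (∏ᶜ fun U : Y.affineOpens => Nmod ℳ p chart n U) ⟶
    ∏ᶜ fun q : Pairs Y => Nmod ℳ p chart n q.1.2 :=
  Pi.lift fun q => Pi.π _ q.1.1 ≫ tr p chart hP n q.1.1.2 q.1.2.2 q.2

/-- The second map between the products. -/
def trRight : (∏ᶜ fun U : Y.affineOpens => Nmod ℳ p chart n U) ⟶
    ∏ᶜ fun q : Pairs Y => Nmod ℳ p chart n q.1.2 :=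
  Pi.lift fun q => Pi.π _ q.1.2

/-- The glued module. -/
def glued : P.Modules := equalizer (trLeft (ℳ := ℳ) p chart hP n) (trRight (ℳ := ℳ) p chart n)

/-- The identifications. -/
def gluedLam (U : Y.Opens) (hU : IsAffineOpen U) :
    glued (ℳ := ℳ) p chart hP n ⟶
      (Scheme.Modules.pushforward (emb U hU)).obj (GrMod.tilde (𝒮.deg U hU) (ℳ.deg U hU) n) :=
  equalizer.ι _ _ ≫ Pi.π (fun U : Y.affineOpens => Nmod ℳ p chart n U) ⟨U, hU⟩

lemma app_comp {A B C : P.Modules} (a : A ⟶ B) (b : B ⟶ C) (W : P.Opens) (s : Γ(A, W)) :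
    (a ≫ b).app W s = b.app W (a.app W s) := by
  rw [Scheme.Modules.Hom.comp_app]; rfl

lemma glued_tr (q : Pairs Y) (W : P.Opens) (s : Γ(glued (ℳ := ℳ) p chart hP n, W)) :
    (tr p chart hP n q.1.1.2 q.1.2.2 q.2).app W ((gluedLam p chart hP n q.1.1.1 q.1.1.2).app W s) =
      (gluedLam p chart hP n q.1.2.1 q.1.2.2).app W s := by
  have h := congrArg (fun φ : glued (ℳ := ℳ) p chart hP n ⟶ _ => (φ ≫ Pi.π _ q).app W s)
    (equalizer.condition (trLeft (ℳ := ℳ) p chart hP n) (trRight (ℳ := ℳ) p chart n))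
  simp only [trLeft, trRight, Category.assoc, Pi.lift_π] at h
  rw [← Category.assoc] at h
  rw [← app_comp]
  exact h

section extend

variable {W : P.Opens} {U : Y.Opens} (hU : IsAffineOpen U)
  (t : Γ(Nmod ℳ p chart n ⟨U, hU⟩, W))

/-- `q` at `z` is compatible with the section `t` of the `U`-chart. -/
def Good {V : Y.Opens} (hV : IsAffineOpen V) (z : ProjectiveSpectrum (𝒮.deg V hV))
    (q : GrMod.LocMod (𝒮.deg V hV) (M := ℳ.mod.val.obj (op V)) z) : Prop :=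
  ∀ (D : Y.Opens) (hD : IsAffineOpen D) (h : IsBasic U D) (h' : IsBasic V D)
    (w : ProjectiveSpectrum (𝒮.deg D hD)) (e : pt hV hD h' w = z) (hw : (emb U hU) (pt hU hD h w) ∈ W),
    lm ℳ hV hD h' w z e q =
      lm ℳ hU hD h w _ rfl (GrMod.val (𝒜 := 𝒮.deg U hU) (ℳ := ℳ.deg U hU) (n := n) (V := emb U hU ⁻¹ᵁ W) t ⟨_, hw⟩)

omit t in
lemma lm_val_congr {E : Y.Opens} (hE : IsAffineOpen E) (h : IsBasic U E) (w : ProjectiveSpectrum (𝒮.deg E hE))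
    {V' : (Proj (𝒮.deg U hU)).Opens} (t' : Γ(GrMod.tilde (𝒮.deg U hU) (ℳ.deg U hU) n, V'))
    {z z' : ProjectiveSpectrum (𝒮.deg U hU)} (e : pt hU hE h w = z) (e' : pt hU hE h w = z') (h1 : z ∈ V') (h2 : z' ∈ V') :
    lm ℳ hU hE h w z e (GrMod.val t' ⟨z, h1⟩) = lm ℳ hU hE h w z' e' (GrMod.val t' ⟨z', h2⟩) := by
  subst e e'
  rfl

include hP hloc in
lemma exists_good (hW : W ≤ p ⁻¹ᵁ U) {V : Y.Opens} (hV : IsAffineOpen V)
    (z : ProjectiveSpectrum (𝒮.deg V hV)) (hz : (emb V hV) z ∈ W) : ∃! q, Good p chart n hU t hV z q := by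
  obtain ⟨D₀, hD₀, h₀, h₀', hx₀⟩ :=
    exists_common hU hV (x := p ((emb V hV) z)) ⟨hW hz, mem_of_chart p chart hV z⟩
  obtain ⟨w₀, rfl⟩ := exists_pt p chart hP hV hD₀ h₀' z hx₀
  have hw₀ : (emb U hU) (pt hU hD₀ h₀ w₀) ∈ W := by
    rw [emb_pt p chart hP hU hD₀ h₀, ← emb_pt p chart hP hV hD₀ h₀']; exact hz
  obtain ⟨q, hq⟩ := lm_surjective hloc hV hD₀ h₀' w₀ _ rfl
    (lm ℳ hU hD₀ h₀ w₀ _ rfl (GrMod.val (𝒜 := 𝒮.deg U hU) (ℳ := ℳ.deg U hU) (n := n) (V := emb U hU ⁻¹ᵁ W) t ⟨_, hw₀⟩))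
  refine ⟨q, fun D hD h h' w e hw => ?_, fun q' hq' => lm_injective hloc hV hD₀ h₀' w₀ _ rfl
    ((hq' D₀ hD₀ h₀ h₀' w₀ rfl hw₀).trans hq.symm)⟩
  have hx : (emb D hD) w = (emb D₀ hD₀) w₀ := by
    rw [← emb_pt p chart hP hV hD h', e, emb_pt p chart hP hV hD₀ h₀']
  obtain ⟨D₃, hD₃, h₃, h₃', hx₃⟩ := exists_common hD hD₀ (x := p ((emb D hD) w))
    ⟨mem_of_chart p chart hD w, hx ▸ mem_of_chart p chart hD₀ w₀⟩
  obtain ⟨w₃, e₃⟩ := exists_pt p chart hP hD hD₃ h₃ w hx₃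
  have e₃' : pt hD₀ hD₃ h₃' w₃ = w₀ := (emb D₀ hD₀).isOpenEmbedding.injective (by
    rw [emb_pt p chart hP hD₀ hD₃ h₃', ← emb_pt p chart hP hD hD₃ h₃, e₃, hx])
  have eV : pt hV hD₃ (h₀'.trans hV h₃') w₃ = pt hV hD₀ h₀' w₀ := (emb V hV).isOpenEmbedding.injective (by
    rw [emb_pt p chart hP hV hD₃, ← emb_pt p chart hP hD₀ hD₃ h₃', e₃', emb_pt p chart hP hV hD₀])
  have eU : pt hU hD₃ (h₀.trans hU h₃') w₃ = pt hU hD₀ h₀ w₀ := (emb U hU).isOpenEmbedding.injective (by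
    rw [emb_pt p chart hP hU hD₃, ← emb_pt p chart hP hD₀ hD₃ h₃', e₃', emb_pt p chart hP hU hD₀])
  have eq : pt hU hD h w = pt hU hD₀ h₀ w₀ := (emb U hU).isOpenEmbedding.injective (by
    rw [emb_pt p chart hP hU hD, emb_pt p chart hP hU hD₀, hx])
  apply lm_injective hloc hD hD₃ h₃ w₃ w e₃
  rw [lm_comp (h₀'.trans hV h₃') e₃ e eV, ← lm_comp (h₀'.trans hV h₃') e₃' rfl eV, hq,
    lm_comp (h₀.trans hU h₃') e₃' rfl eU,
    lm_comp (h₀.trans hU h₃') e₃ rfl (eU.trans eq.symm)]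
  exact lm_val_congr (n := n) (hU := hU) hD₃ (h₀.trans hU h₃') w₃ (V' := emb U hU ⁻¹ᵁ W) t eU (eU.trans eq.symm) hw₀ hw

variable (hW : W ≤ p ⁻¹ᵁ U)

/-- The value at `z` of the extension of `t`. -/
def extVal {V : Y.Opens} (hV : IsAffineOpen V) (z : ProjectiveSpectrum (𝒮.deg V hV))
    (hz : (emb V hV) z ∈ W) : GrMod.LocMod (𝒮.deg V hV) (M := ℳ.mod.val.obj (op V)) z :=
  (exists_good hloc p chart hP n hU t hW hV z hz).choose

lemma extVal_good {V : Y.Opens} (hV : IsAffineOpen V) (z : ProjectiveSpectrum (𝒮.deg V hV))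
    (hz : (emb V hV) z ∈ W) : Good p chart n hU t hV z (extVal hloc p chart hP n hU t hW hV z hz) :=
  (exists_good hloc p chart hP n hU t hW hV z hz).choose_spec.1

lemma exists_frac_near {V : Y.Opens} (hV : IsAffineOpen V) (z : ProjectiveSpectrum (𝒮.deg V hV))
    (hz : (emb V hV) z ∈ W) :
    ∃ (O : (Proj (𝒮.deg V hV)).Opens) (_ : z ∈ O) (i j : ℕ) (m : ℳ.mod.val.obj (op V))
      (_ : m ∈ ℳ.deg V hV i) (s : 𝒮.presheaf.obj (op V)) (_ : s ∈ 𝒮.deg V hV j)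
      (hs : ∀ y ∈ O, s ∉ y.asHomogeneousIdeal) (_ : (i : ℤ) = j + n ∨ m = 0) (hO : ∀ y ∈ O, (emb V hV) y ∈ W),
      ∀ (y) (hy : y ∈ O), extVal hloc p chart hP n hU t hW hV y (hO y hy) =
        LocalizedModule.mk m ⟨s, hs y hy⟩ := by
  obtain ⟨D, hD, h, h', hx⟩ :=
    exists_common hU hV (x := p ((emb V hV) z)) ⟨hW hz, mem_of_chart p chart hV z⟩
  obtain ⟨w, rfl⟩ := exists_pt p chart hP hV hD h' z hx
  have hw : (emb U hU) (pt hU hD h w) ∈ W := by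
    rw [emb_pt p chart hP hU hD h, ← emb_pt p chart hP hV hD h']; exact hz
  obtain ⟨O₁, hw₁, i₁, i, j, ⟨m, hm⟩, ⟨s, hs⟩, nin, hdeg, hval⟩ :=
    (show GrMod.sect (𝒮.deg U hU) (ℳ.deg U hU) n (op (emb U hU ⁻¹ᵁ W)) from t).2 ⟨_, hw⟩
  obtain ⟨m₀, hm₀, s₀, hs₀, a, ha, hma, hsa, hzero⟩ := exists_frac_lift hloc hV hD h'
    (ℳ.res hU hD h.le m) (ℳ.res_mem hU hD h.le i m hm) (𝒮.res hU hD h.le s)
    ((𝒮.res hU hD h.le).map_mem hs)
  have hs₀ne : ∀ y : ProjectiveSpectrum (𝒮.deg D hD), pt hU hD h y ∈ O₁ →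
      s₀ ∉ (pt hV hD h' y).asHomogeneousIdeal := fun y hy hmem => by
    have h1 : 𝒮.res hV hD h'.le s₀ ∈ y.asHomogeneousIdeal := hmem
    rw [hsa] at h1
    exact (y.isPrime.mem_or_mem h1).elim (fun h2 => y.isPrime.ne_top (Ideal.eq_top_of_isUnit_mem _ h2 ha))
      (nin ⟨_, hy⟩)
  let O : (Proj (𝒮.deg V hV)).Opens :=
    emb V hV ⁻¹ᵁ ((emb U hU ''ᵁ O₁) ⊓ p ⁻¹ᵁ D ⊓ W) ⊓ Proj.basicOpen (𝒮.deg V hV) s₀
  refine ⟨O, ⟨⟨⟨⟨_, hw₁, (emb_pt p chart hP hU hD h w).trans (emb_pt p chart hP hV hD h' w).symm⟩, hx⟩, hz⟩,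
    hs₀ne w hw₁⟩, i, j, m₀, hm₀, s₀, hs₀, fun y hy => hy.2,
    hdeg.imp_right (fun h0 => hzero (by
      change m = 0 at h0
      rw [h0, map_zero])), fun y hy => hy.1.2, ?_⟩
  intro y hy
  obtain ⟨⟨⟨⟨yU, hyU, eyU⟩, hyD⟩, hyW⟩, hys⟩ := hy
  obtain ⟨w', rfl⟩ := exists_pt p chart hP hV hD h' y hyD
  have hw' : (emb U hU) (pt hU hD h w') ∈ W := by
    rw [emb_pt p chart hP hU hD h, ← emb_pt p chart hP hV hD h']; exact hyW
  have hw'₁ : pt hU hD h w' ∈ O₁ := by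
    have : yU = pt hU hD h w' := (emb U hU).isOpenEmbedding.injective (eyU.trans
      ((emb_pt p chart hP hV hD h' w').trans (emb_pt p chart hP hU hD h w').symm))
    exact this ▸ hyU
  apply lm_injective hloc hV hD h' w' _ rfl
  rw [extVal_good hloc p chart hP n hU t hW hV _ hyW D hD h h' w' rfl hw', lm_mk]
  have e1 : GrMod.val (𝒜 := 𝒮.deg U hU) (ℳ := ℳ.deg U hU) (n := n) (V := emb U hU ⁻¹ᵁ W) t ⟨_, hw'⟩ = LocalizedModule.mk m ⟨s, nin ⟨_, hw'₁⟩⟩ :=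
    hval ⟨_, hw'₁⟩
  rw [e1, lm_mk, LocalizedModule.mk_eq]
  refine ⟨1, ?_⟩
  simp only [one_smul, Submonoid.smul_def, hma, hsa, smul_smul, mul_comm]

/-- The extension of `t` to the chart of `V`. -/
def ext (V : Y.affineOpens) : Γ(Nmod ℳ p chart n V, W) :=
  show GrMod.sect (𝒮.deg V.1 V.2) (ℳ.deg V.1 V.2) n (op (emb V.1 V.2 ⁻¹ᵁ W)) from
    ⟨fun z => ⟨extVal hloc p chart hP n hU t hW V.2 z.1 z.2, by
      obtain ⟨O, hzO, i, j, m, hm, s, hs, hsne, hdeg, hO, hval⟩ :=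
        exists_frac_near hloc p chart hP n hU t hW V.2 z.1 z.2
      rw [hval z.1 hzO]
      rcases hdeg with hd | rfl
      · exact GrModX.mk_mem_tildeAt _ _ n z.1 hs (hsne _ hzO) (Or.inr ⟨i, hd, hm⟩)
      · rw [LocalizedModule.zero_mk]; exact zero_mem _⟩,
    fun z => by
      obtain ⟨O, hzO, i, j, m, hm, s, hs, hsne, hdeg, hO, hval⟩ :=
        exists_frac_near hloc p chart hP n hU t hW V.2 z.1 z.2
      exact ⟨O, hzO, homOfLE fun y hy => hO y hy, i, j, ⟨m, hm⟩, ⟨s, hs⟩, fun y => hsne y.1 y.2, hdeg,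
        fun y => hval y.1 y.2⟩⟩

lemma tr_ext (q : Pairs Y) :
    (tr p chart hP n q.1.1.2 q.1.2.2 q.2).app W (ext hloc p chart hP n hU t hW q.1.1) =
      ext hloc p chart hP n hU t hW q.1.2 := by
  refine GrModX.ext_val _ _ fun ⟨y, hy⟩ => ?_
  have hy' : (emb q.1.1.1 q.1.1.2) (pt q.1.1.2 q.1.2.2 q.2 y) ∈ W := by
    rw [emb_pt p chart hP]; exact hy
  rw [val_tr p chart hP n q W _ y hy hy']
  refine ((exists_good hloc p chart hP n hU t hW q.1.2.2 y hy).choose_spec.2 _ ?_).trans rfl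
  intro E hE h h' w e hw
  have eV : pt q.1.1.2 hE (q.2.trans q.1.1.2 h') w = pt q.1.1.2 q.1.2.2 q.2 y :=
    (emb q.1.1.1 q.1.1.2).isOpenEmbedding.injective (by
      rw [emb_pt p chart hP, emb_pt p chart hP, ← emb_pt p chart hP q.1.2.2 hE h', e])
  rw [lm_comp (q.2.trans q.1.1.2 h') e rfl eV]
  exact extVal_good hloc p chart hP n hU t hW q.1.1.2 _ hy' E hE h _ w eV hw

lemma ext_self : ext hloc p chart hP n hU t hW ⟨U, hU⟩ = t := by
  refine GrModX.ext_val _ _ fun ⟨y, hy⟩ => ?_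
  refine ((exists_good hloc p chart hP n hU t hW hU y hy).choose_spec.2 _ ?_).symm
  intro E hE h h' w e hw
  subst e
  rfl

end extend

include hloc in
/-- The glued module is the module `(ℳ(n))~`. -/
theorem isRelTilde_glued :
    RelProj.IsRelTilde 𝒮 p chart ℳ n (glued p chart hP n) (gluedLam p chart hP n) := by
  refine ⟨fun U hU W hW => ⟨?_, fun t => ?_⟩, fun U hU r W s y hy hy' => ?_⟩
  · rw [injective_iff_map_eq_zero]
    intro s hs
    apply equalizer_section_injective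
    refine (exists_pi_section (fun U : Y.affineOpens => Nmod ℳ p chart n U) W (fun _ => 0)).unique
      (fun V => ?_) (fun V => ?_) |>.trans rfl
    · rw [← app_comp]
      refine GrModX.ext_val _ _ fun ⟨z, hz⟩ => ?_
      obtain ⟨D, hD, h, h', hx⟩ :=
        exists_common hU V.2 (x := p ((emb V.1 V.2) z)) ⟨hW hz, mem_of_chart p chart V.2 z⟩
      obtain ⟨w, rfl⟩ := exists_pt p chart hP V.2 hD h' z hx
      have hw : (emb D hD) w ∈ W := by rw [← emb_pt p chart hP V.2 hD h']; exact hz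
      have hwU : (emb U hU) (pt hU hD h w) ∈ W := by rw [emb_pt p chart hP hU hD h]; exact hw
      have e1 := glued_tr p chart hP n ⟨(V, ⟨D, hD⟩), h'⟩ W s
      have e2 := glued_tr p chart hP n ⟨(⟨U, hU⟩, ⟨D, hD⟩), h⟩ W s
      rw [hs, map_zero] at e2
      have e3 := congrArg (fun a => GrMod.val (V := emb D hD ⁻¹ᵁ W) a ⟨w, hw⟩) (e1.trans e2.symm)
      rw [val_tr p chart hP n ⟨(V, ⟨D, hD⟩), h'⟩ W _ w hw hz] at e3
      apply lm_injective hloc V.2 hD h' w _ rfl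
      refine e3.trans ?_
      show (0 : GrMod.LocMod (𝒮.deg D hD) (M := ℳ.mod.val.obj (op D)) w) = _
      exact (map_zero (GrMod.locModMap (𝒮.res V.2 hD h'.le) (irr 𝒮 V.2 hD h') (ℳ.res V.2 hD h'.le) w)).symm
    · rw [map_zero, map_zero]
  · obtain ⟨σ, hσ, -⟩ := exists_pi_section (fun U : Y.affineOpens => Nmod ℳ p chart n U) W
      (ext hloc p chart hP n hU t hW)
    obtain ⟨s, hs⟩ := exists_equalizer_section (trLeft (ℳ := ℳ) p chart hP n) (trRight (ℳ := ℳ) p chart n) W σ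
      ((exists_pi_section (fun q : Pairs Y => Nmod ℳ p chart n q.1.2) W
        (fun q => ext hloc p chart hP n hU t hW q.1.2)).unique
        (fun q => by
          rw [← app_comp, trLeft, Pi.lift_π, app_comp, hσ]
          exact tr_ext hloc p chart hP n hU t hW q)
        (fun q => by rw [← app_comp, trRight, Pi.lift_π, hσ]))
    refine ⟨s, ?_⟩
    rw [gluedLam, app_comp]
    exact (congrArg _ hs).trans ((hσ _).trans (ext_self hloc p chart hP n hU t hW))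
  · rw [← glued_tr p chart hP n ⟨(⟨U, hU⟩, ⟨Y.basicOpen r, hU.basicOpen r⟩), ⟨r, rfl⟩⟩ W s]
    rfl

end Groth.Agent.RelTildeX.Exists
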